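import Groth.Agent.L23.RelSpec.Limit

/-!
# Affine and integral spaces as limits
-/

universe u

open CategoryTheory CategoryTheory.Limits AlgebraicGeometry Opposite AlgSp

set_option autoImplicit false
set_option linter.style.haveILetI false
set_option backward.isDefEq.respectTransparency false
set_option backward.isDefEq.respectTransparency.types false

noncomputable section

namespace Groth.L23.RelSpec

open Groth.L23.Norm Groth.L23.GlobSec Groth.L09.ModEt

variable {S : Scheme.{u}}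

theorem proj_appTop {G : Sp S} (B : AlgData G) (c : Chart G) :
    (B.proj c).left.appTop = B.str c ≫ (Scheme.ΓSpecIso (B.A c)).inv := by
  show (Spec.map (B.str c) ≫ c.V.left.isoSpec.inv).appTop = _
  rw [Scheme.Hom.comp_appTop, isoSpec_inv_appTop]
  exact (Scheme.ΓSpecIso_inv_naturality _).symm

theorem mem_closure_spec {R A : CommRingCat.{u}} (s : R ⟶ A) (T : Finset A)
    (hT : ∀ a : A, a ∈ Subring.closure (Set.range s.hom ∪ (T : Set A))) (e : A ≅ Γ(Spec A, ⊤))
    (x : Γ(Spec A, ⊤)) (T' : Finset Γ(Spec A, ⊤)) (hT' : ∀ a ∈ T, e.hom.hom a ∈ T') :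
    x ∈ Subring.closure (Set.range (s ≫ e.hom).hom ∪ (T' : Set Γ(Spec A, ⊤))) := by
  obtain ⟨a, rfl⟩ := (ConcreteCategory.bijective_of_isIso e.hom).2 x
  induction hT a using Subring.closure_induction with
  | mem z hz =>
    rcases hz with ⟨r, rfl⟩ | hz
    · exact Subring.subset_closure (Or.inl ⟨r, rfl⟩)
    · exact Subring.subset_closure (Or.inr (hT' z hz))
  | zero => rw [map_zero]; exact zero_mem _
  | one => rw [map_one]; exact one_mem _
  | add z w _ _ hz hw => rw [map_add]; exact add_mem hz hw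
  | neg z _ hz => rw [map_neg]; exact neg_mem hz
  | mul z w _ _ hz hw => rw [map_mul]; exact mul_mem hz hw

variable {X : Sp S} {Y : AlgSp.Space S} {f : X ⟶ Y.obj}

/-- The bundle of a module with a map to the functions upstairs. -/
def bunOf (hfa : RepWith @IsAffineHom f) (c : Chart Y.obj) (hcs : RepWith @Surjective c.v) (N : ModEt Y.obj)
    [N.IsFiniteType] [N.IsQuasicoherent] [N.IsFinitePresentation] (φ : N ⟶ (pushModEt hfa.1).obj (unitModEt X))
    (n : ∀ c : Chart Y.obj, (yon S).obj ((symData N).spec c) ⟶ (symData N).relSpec)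
    (hn : ∀ c, IsPullback (n c) ((yon S).map ((symData N).proj c)) (symData N).relProj c.v)
    (g : X ⟶ (symData N).relSpec) (hg : g ≫ (symData N).relProj = f)
    (hpb : ∀ c, IsPullback (hfa.1.fst c.v) ((yon S).map (toSpec N hfa.1 φ c)) g (n c)) : Bun hfa c hcs where
  V := ⟨(symData N).relSpec, (symData N).isAlgSpace Y.property⟩
  p := (symData N).relProj
  hp := Groth.L23.isAffineMor_iff.1 ((symData N).isAffineMor_relProj Y.property)
  T := (symData N).spec c
  q := (symData N).proj c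
  aff := (symData N).isAffine_spec c
  n := n c
  sq := hn c
  g := g
  fac := hg
  γ := toSpec N hfa.1 φ c
  sqg := hpb c
  γq := toSpec_proj N hfa.1 φ c
  lfp := by
    show LocallyOfFinitePresentation (Spec.map ((symData N).str c) ≫ c.V.left.isoSpec.inv)
    haveI : LocallyOfFinitePresentation (Spec.map ((symData N).str c)) :=
      (HasRingHomProperty.Spec_iff (P := @LocallyOfFinitePresentation)).2 (finitePresentation_symData N c)
    infer_instance

theorem exists_generators (N : ModEt Y.obj) [N.IsFiniteType] [N.IsQuasicoherent] [N.IsFinitePresentation]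
    (c : Chart Y.obj) : ∃ T : Finset Γ(((symData N).spec c).left, ⊤), ∀ x,
      x ∈ Subring.closure (Set.range ((symData N).proj c).left.appTop.hom ∪ (T : Set Γ(((symData N).spec c).left, ⊤))) := by
  classical
  haveI := Groth.L23.FP.finitePresentation_sectModEt N (objC c)
  haveI : Module.Finite (Γ₀ (objC c)) (Nc N c) := Module.Finite.equiv (toSect N c).symm
  obtain ⟨G, hG⟩ := (inferInstance : Module.Finite (Γ₀ (objC c)) (Nc N c)).fg_top
  let T : Finset ((symData N).A c) :=
    (G.finite_toSet.image (SymmetricAlgebra.ι (Γ₀ (objC c)) (Nc N c))).toFinset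
  let e : (symData N).A c ≅ Γ(Spec ((symData N).A c), ⊤) := (Scheme.ΓSpecIso _).symm
  refine ⟨(T.finite_toSet.image e.hom.hom).toFinset, fun x => ?_⟩
  rw [proj_appTop]
  exact mem_closure_spec ((symData N).str c) T
    (fun a => mem_closure_symStr G hG T (fun m hm => (Set.Finite.mem_toFinset _).2 ⟨m, hm, rfl⟩) a) e x _
    fun a ha => (Set.Finite.mem_toFinset _).2 ⟨a, ha, rfl⟩

theorem mem_range_toSpec {P : ModEt Y.obj} (hf : Representable f) (N : ModEt Y.obj) [N.IsFiniteType]
    [N.IsQuasicoherent] (φ : N ⟶ (pushModEt hf).obj (unitModEt X)) (c : Chart Y.obj) (j : P ⟶ N)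
    (z : Γ₀ (EtOver.bcObj hf (objC c))) (m' : sectModEt P (objC c))
    (h : sapp (j ≫ φ) (objC c) m' = (ULift.up z : ULift.{u + 1} (Γ₀ (EtOver.bcObj hf (objC c))))) :
    ∃ p, (toSpec N hf φ c).left.appTop.hom p = z := by
  obtain ⟨p, hp⟩ := toSpec_appTop_surj N hf φ c ((toSect N c).symm (sapp j (objC c) m'))
  refine ⟨p, hp.trans ?_⟩
  show (sapp φ (objC c) (toSect N c ((toSect N c).symm (sapp j (objC c) m')))).down = z
  rw [LinearEquiv.apply_symm_apply, ← Groth.L09.EtSub.sapp_comp, h]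

set_option maxHeartbeats 4000000 in
/-- The bundles of the finite sets of functions upstairs. -/
theorem exists_bunSys [QuasiSeparatedSpace ↥S] (hfa : RepWith @IsAffineHom f) (hqc : IsQuasiCompactSp Y.obj)
    (hqs : IsQuasiSeparatedSp Y.obj) (c : Chart Y.obj) (hcs : RepWith @Surjective c.v) :
    ∃ (Idx : Type u) (_ : Preorder Idx) (_ : IsDirected Idx (· ≤ ·)) (_ : Nonempty Idx)
      (H : BunSys Idx hfa c hcs), ∀ s, ∃ T : Finset (H.B s).ring, ∀ x,
        x ∈ Subring.closure (Set.range (H.B s).q.left.appTop.hom ∪ (T : Set (H.B s).ring)) := by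
  classical
  let M := (pushModEt hfa.1).obj (unitModEt X)
  haveI := Groth.L23.FLF.isQuasicoherent_unit X
  haveI : M.IsQuasicoherent := PushAff.isQuasicoherent_push hfa.1 (unitModEt X) hfa
  let E₀ := EtOver.bcObj hfa.1 (objC c)
  choose Q ψ hQ hψ using fun x : Γ₀ E₀ => Groth.L09.EtSub.exists_fp_lift Y.property hqc hqs M
    (E₀ := objC c) (ULift.up x : ULift.{u + 1} (Γ₀ E₀))
  haveI := hQ
  let ι : Finset (Γ₀ E₀) → Type (u + 1) := fun s => ULift.{u + 1} ↥s
  let N : Finset (Γ₀ E₀) → ModEt Y.obj := fun s => ⨁ fun x : ι s => Q x.down.1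
  haveI hNqc : ∀ s, (N s).IsQuasicoherent := fun s =>
    Groth.L09.EtSub.isQuasicoherent_biproduct _ fun x => inferInstance
  haveI hNfp : ∀ s, (N s).IsFinitePresentation := fun s =>
    Groth.L09.EtSub.isFinitePresentation_of_affine (N s) fun E _ =>
      Groth.L09.EtSub.finitePresentation_biproduct _ E fun x => Groth.L23.FP.finitePresentation_sectModEt _ E
  haveI hNft : ∀ s, (N s).IsFiniteType := fun s => inferInstance
  let φ : ∀ s, N s ⟶ M := fun s => biproduct.desc fun x => ψ x.down.1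
  let ν : ∀ {s t : Finset (Γ₀ E₀)}, s ⊆ t → (N s ⟶ N t) := fun {s t} h =>
    biproduct.desc fun x => biproduct.ι (fun y : ι t => Q y.down.1) ⟨⟨x.down.1, h x.down.2⟩⟩
  have hνφ : ∀ {s t : Finset (Γ₀ E₀)} (h : s ⊆ t), ν h ≫ φ t = φ s := fun {s t} h =>
    biproduct.hom_ext' _ _ fun x => by simp [ν, φ]
  have hνν : ∀ {s t r : Finset (Γ₀ E₀)} (h : s ⊆ t) (h' : t ⊆ r), ν h ≫ ν h' = ν (h.trans h') :=
    fun {s t r} h h' => biproduct.hom_ext' _ _ fun x => by simp [ν]
  have hνid : ∀ s : Finset (Γ₀ E₀), ν (subset_refl s) = 𝟙 (N s) := fun s =>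
    biproduct.hom_ext' _ _ fun x => (biproduct.ι_desc _ _).trans (Category.comp_id _).symm
  choose n hn hnc hnk using fun s => exists_glued (symData (N s)).toData
  choose f' hfac hpb using fun s => exists_toBundle (N s) hfa.1 (φ s) (hn s) (hnk s)
  choose m hm hmc using fun (s t : Finset (Γ₀ E₀)) (h : s ⊆ t) =>
    exists_relMap (symHom (ν h)) (hn s) (hnk s) (hn t) (fun r => hnc t r)
  refine ⟨Finset (Γ₀ E₀), inferInstance, inferInstance, inferInstance,
    { B := fun s => bunOf hfa c hcs (N s) (φ s) (n s) (hn s) (f' s) (hfac s) (hpb s)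
      μ := fun {s t} h => (symHom (ν h)).spec c
      μ_q := fun {s t} h => (symHom (ν h)).spec_proj c
      γ_μ := fun {s t} h => symHom_spec_toSpec (ν h) hfa.1 (φ s) (φ t) (hνφ h) c
      μ_id := fun s => by
        show (symHom (ν _)).spec c = _
        rw [hνid, symHom_spec_id]
        rfl
      μ_comp := fun {s t r} h h' => by
        show (symHom (ν h')).spec c ≫ (symHom (ν h)).spec c = (symHom (ν (h.trans h'))).spec c
        rw [← hνν h h', symHom_spec_comp]
      m := fun {s t} h => m s t h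
      m_p := fun {s t} h => hm s t h
      n_m := fun {s t} h => hmc s t h c
      surj := fun x y => ?_ }, fun s => exists_generators (N s) c⟩
  refine ⟨{x, y}, ?_⟩
  have key : ∀ z (hz : z ∈ ({x, y} : Finset (Γ₀ E₀))),
      ∃ p, (toSpec (N {x, y}) hfa.1 (φ {x, y}) c).left.appTop.hom p = z := fun z hz => by
    obtain ⟨m', hm'⟩ := hψ z
    exact mem_range_toSpec hfa.1 (N {x, y}) (φ {x, y}) c (biproduct.ι (fun w : ι {x, y} => Q w.down.1) ⟨⟨z, hz⟩⟩) z m'
      ((congrArg (fun g => sapp g (objC c) m') (biproduct.ι_desc (fun w : ι {x, y} => ψ w.down.1) ⟨⟨z, hz⟩⟩)).trans hm')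
  obtain ⟨p, hp⟩ := key x (Finset.mem_insert_self _ _)
  obtain ⟨q, hq⟩ := key y (Finset.mem_insert_of_mem (Finset.mem_singleton_self y))
  exact ⟨p, q, hp, hq⟩

/-- The chart of an atlas is surjective. -/
theorem surjective_atlasChart (b : Atlas Y.obj) : RepWith @Surjective (atlasChart b).v :=
  repWith_surjective_of_map (Y.property.representable_from_yon _) fun x => by
    obtain ⟨e, he⟩ := b.surj x
    exact ⟨_, (Points.ofPt_eq_map_ofScheme _ e).symm.trans he⟩

theorem fp_piece {c : Chart Y.obj} (hcs : RepWith @Surjective c.v) {Z : Sp S} {t : Z ⟶ Y.obj}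
    (ht : RepWith @IsAffineHom t) {W : Over S} {v : W ⟶ c.V} {fst : (yon S).obj W ⟶ Z}
    (sq : IsPullback fst ((yon S).map v) t c.v) (hv : LocallyOfFinitePresentation v.left) :
    IsFinitePresentationMor t :=
  ⟨locP_of_repWith etLocal_lfp (ChevGen.repWith_of_atlas ht.1 c.etale hcs sq hv),
    isQuasiCompactMor_of_repWith (repWith_mono (fun φ (_ : IsAffineHom φ) => inferInstanceAs (QuasiCompact φ)) ht),
    repWith_mono (fun φ (_ : IsClosedImmersion φ) => inferInstanceAs (QuasiCompact φ)) ((isSeparatedMor_iff ht.1).2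
      (repWith_mono (fun φ (_ : IsAffineHom φ) => inferInstanceAs (IsSeparated φ)) ht))⟩

/-- An affine space is a limit of affine spaces of finite presentation. -/
theorem exists_limit_affine [QuasiSeparatedSpace ↥S] (hfa : RepWith @IsAffineHom f)
    (hqc : IsQuasiCompactSp Y.obj) (hqs : IsQuasiSeparatedSp Y.obj) :
    ∃ (I : Type u) (_ : Preorder I) (_ : IsDirected I (fun a b => a ≤ b)) (_ : Nonempty I) (D : Iᵒᵖ ⥤ Sp S)
      (t : D ⟶ (Functor.const Iᵒᵖ).obj Y.obj) (cn : Cone D) (_ : IsLimit cn) (e : cn.pt ≅ X),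
      (∀ i, IsAlgSpace (D.obj i)) ∧ (∀ (i j : Iᵒᵖ) (φ : i ⟶ j), IsAffineMor (D.map φ)) ∧
      (∀ i, IsAffineMor (t.app i) ∧ IsFinitePresentationMor (t.app i)) ∧
      (∀ i, e.inv ≫ cn.π.app i ≫ t.app i = f) := by
  obtain ⟨b⟩ := nonempty_atlas Y hqc hqs
  obtain ⟨Idx, _, _, _, H, -⟩ := exists_bunSys hfa hqc hqs (atlasChart b) (surjective_atlasChart b)
  obtain ⟨I, h1, h2, h3, D, t, cn, hcn, e, hA, hB, hC, hE⟩ := H.exists_limit hqs (fun s => ∅)
    fun s x hx => absurd hx (Finset.notMem_empty x)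
  refine ⟨I, h1, h2, h3, D, t, cn, hcn, e, hA, hB, fun i => ?_, hE⟩
  obtain ⟨s, z, W, w, fst, -, hta, -, -, hwl, sq, -, -⟩ := hC i
  haveI := hwl
  haveI := (H.B s).lfp
  exact ⟨Groth.L23.isAffineMor_iff.2 hta, fp_piece (surjective_atlasChart b) hta sq
    (by rw [Over.comp_left]; infer_instance)⟩

/-- An integral space is a limit of finite spaces of finite presentation. -/
theorem exists_limit_integral [QuasiSeparatedSpace ↥S] (hf : RepWith @IsIntegralHom f)
    (hqc : IsQuasiCompactSp Y.obj) (hqs : IsQuasiSeparatedSp Y.obj) :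
    ∃ (I : Type u) (_ : Preorder I) (_ : IsDirected I (fun a b => a ≤ b)) (_ : Nonempty I) (D : Iᵒᵖ ⥤ Sp S)
      (t : D ⟶ (Functor.const Iᵒᵖ).obj Y.obj) (cn : Cone D) (_ : IsLimit cn) (e : cn.pt ≅ X),
      (∀ i, IsAlgSpace (D.obj i)) ∧ (∀ (i j : Iᵒᵖ) (φ : i ⟶ j), IsAffineMor (D.map φ)) ∧
      (∀ i, IsFiniteMor (t.app i) ∧ IsFinitePresentationMor (t.app i)) ∧
      (∀ i, e.inv ≫ cn.π.app i ≫ t.app i = f) := by
  classical
  have hfa : RepWith @IsAffineHom f := repWith_mono (fun φ (_ : IsIntegralHom φ) => inferInstanceAs (IsAffineHom φ)) hf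
  obtain ⟨b⟩ := nonempty_atlas Y hqc hqs
  obtain ⟨Idx, _, _, _, H, hgen⟩ := exists_bunSys hfa hqc hqs (atlasChart b) (surjective_atlasChart b)
  choose T hT using hgen
  haveI : IsIntegralHom (hfa.1.snd (atlasChart b).v).left := repWith_snd hf _
  haveI : IsAffine (hfa.1.pullback (atlasChart b).v).left :=
    isAffine_of_isAffineHom (hfa.1.snd (atlasChart b).v).left
  have hint : ∀ (s : Idx) (x : (H.B s).ring), ∃ p : Polynomial Γ((atlasChart b).V.left, ⊤), p.Monic ∧
      (H.B s).π.hom (p.eval₂ (H.B s).q.left.appTop.hom x) = 0 := fun s x => by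
    obtain ⟨p, hp1, hp2⟩ :=
      ((HasAffineProperty.iff_of_isAffine (P := @IsIntegralHom)).1 ‹IsIntegralHom _›).2 ((H.B s).π.hom x)
    refine ⟨p, hp1, ?_⟩
    rw [Polynomial.hom_eval₂, ← CommRingCat.hom_comp, ← Scheme.Hom.comp_appTop, ← Over.comp_left, Bun.γq]
    exact hp2
  choose p hpm hpz using hint
  let good : ∀ s, Finset (H.B s).ring := fun s => (T s).image fun x => (p s x).eval₂ (H.B s).q.left.appTop.hom x
  obtain ⟨I, h1, h2, h3, D, t, cn, hcn, e, hA, hB, hC, hE⟩ := H.exists_limit hqs good fun s x hx => by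
    obtain ⟨y, -, rfl⟩ := Finset.mem_image.1 hx
    exact hpz s y
  refine ⟨I, h1, h2, h3, D, t, cn, hcn, e, hA, hB, fun i => ?_, hE⟩
  obtain ⟨s, z, W, w, fst, -, hta, -, hwc, hwl, sq, hgd, -⟩ := hC i
  haveI := hwl
  haveI := hwc
  haveI := (H.B s).lfp
  haveI : IsAffine W.left := isAffine_of_isAffineHom w.left
  have hfin : IsFinite (w ≫ (H.B s).q).left := by
    refine (HasAffineProperty.iff_of_isAffine (P := @IsFinite)).2 ⟨inferInstance, ?_⟩
    rw [Over.comp_left, Scheme.Hom.comp_appTop]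
    exact finite_of_monics _ _ ((HasAffineProperty.iff_of_isAffine (P := @IsClosedImmersion)).1 hwc).2 (T s) (hT s)
      fun x hx => ⟨p s x, hpm s x, hgd _ (Finset.mem_image_of_mem _ hx)⟩
  exact ⟨Groth.L23.isFiniteMor_iff.2 (ChevGen.repWith_of_atlas hta.1 (atlasChart b).etale (surjective_atlasChart b) sq hfin),
    fp_piece (surjective_atlasChart b) hta sq (by rw [Over.comp_left]; infer_instance)⟩

end Groth.L23.RelSpec
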