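import Groth.Agent.L23.RelSpec.VecBundle
import Groth.Agent.L23.ChevGen.Union
import Groth.Agent.L23.ChevGen.Sep
import Groth.Agent.L23.PushAffine
import Groth.Agent.L23.FtCriterion
import Groth.Agent.L23.FinLocFreeMod
import Groth.Agent.L23.MorCalc
import Groth.Agent.L09.EtSub.FpSystem

/-!
# Finite spaces as limits of finitely presented finite spaces
-/

universe u

open CategoryTheory CategoryTheory.Limits AlgebraicGeometry Opposite AlgSp

set_option autoImplicit false
set_option linter.style.haveILetI false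
set_option backward.isDefEq.respectTransparency false
set_option backward.isDefEq.respectTransparency.types false

noncomputable section

namespace Groth.L23.RelSpec

open Groth.L23.Norm Groth.L23.GlobSec Groth.L09.ModEt

variable {S : Scheme.{u}} {X Y : Sp S}

/-- Sections of the structure sheaf. -/
def unitSect (W : EtOver X) : sectModEt (unitModEt X) W ≃ₗ[Γ₀ W] Γ₀ W where
  toFun a := (show ULift.{u + 1} Γ(W.obj.left.left, ⊤) from a).down
  map_add' _ _ := rfl
  map_smul' _ _ := rfl
  invFun a := (ULift.up a : ULift.{u + 1} Γ(W.obj.left.left, ⊤))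
  left_inv _ := rfl
  right_inv _ := rfl

theorem isFiniteType_unit (X : Sp S) : (unitModEt X).IsFiniteType := by
  haveI := Groth.L23.FLF.isQuasicoherent_unit X
  refine Groth.L23.FP.isFiniteType_of_cover (unitModEt X) fun E e => ?_
  obtain ⟨W, hW, g, hg, -⟩ := Groth.L09.EtSub.exists_affine_nhd E e ⊤ trivial
  exact ⟨W, hW, g, hg, Module.Finite.equiv (unitSect W).symm⟩

theorem isFiniteType_push {f : X ⟶ Y} (hf : RepWith @IsFinite f) :
    ((pushModEt hf.1).obj (unitModEt X)).IsFiniteType := by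
  haveI := Groth.L23.FLF.isQuasicoherent_unit X
  haveI := isFiniteType_unit X
  haveI := PushAff.isQuasicoherent_push hf.1 (unitModEt X)
    (repWith_mono (fun φ (_ : IsFinite φ) => inferInstanceAs (IsAffineHom φ)) hf)
  refine Groth.L23.FP.isFiniteType_of_cover _ fun E e => ?_
  obtain ⟨W, hW, g, hg, -⟩ := Groth.L09.EtSub.exists_affine_nhd E e ⊤ trivial
  exact ⟨W, hW, g, hg, PushAff.finite_push hf.1 (unitModEt X) hf W⟩

/-- The chart given by an object of the atlas. -/
def atlasChart (a : Atlas Y) : Chart Y := { V := a.U.obj.left, aff := a.aff, v := a.U.obj.hom, etale := a.U.property }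

theorem isQuasiSeparatedMor_of_isFinite {f : X ⟶ Y} (hf : RepWith @IsFinite f) : IsQuasiSeparatedMor f :=
  repWith_mono (fun φ (_ : IsClosedImmersion φ) => inferInstanceAs (QuasiCompact φ))
    ((isSeparatedMor_iff hf.1).2 (repWith_mono (fun φ (_ : IsFinite φ) => inferInstanceAs (IsSeparated φ)) hf))

theorem qsSp_of_affine (hY : IsQuasiSeparatedSp Y) {f : X ⟶ Y} (hf : RepWith @IsAffineHom f) :
    IsQuasiSeparatedSp X := by
  have hq : IsQuasiSeparatedMor f := repWith_mono (fun φ (_ : IsClosedImmersion φ) => inferInstanceAs (QuasiCompact φ))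
    ((isSeparatedMor_iff hf.1).2 (repWith_mono (fun φ (_ : IsAffineHom φ) => inferInstanceAs (IsSeparated φ)) hf))
  show RepWith _ (Limits.diag X)
  rw [show Limits.diag X = pullback.diagonal f ≫ prod.lift (pullback.fst f f) (pullback.snd f f) by ext <;> simp]
  exact repWith_comp hq (repWith_of_isPullback (isPullback_diag (IsPullback.of_hasPullback f f)) hY)

/-- A quotient of an algebra generated by elements integral over the base is finite. -/
theorem finite_of_monics {R A B : CommRingCat.{u}} (s : R ⟶ A) (q : A ⟶ B) (hq : Function.Surjective q.hom)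
    (T : Finset A) (hT : ∀ a : A, a ∈ Subring.closure (Set.range s.hom ∪ (T : Set A)))
    (hp : ∀ x ∈ T, ∃ p : Polynomial R, p.Monic ∧ q.hom (p.eval₂ s.hom x) = 0) : (s ≫ q).hom.Finite := by
  classical
  letI : Algebra R B := (s ≫ q).hom.toAlgebra
  show Module.Finite R B
  let T' : Finset B := T.image q.hom
  have hint : ∀ y ∈ (T' : Set B), IsIntegral R y := fun y hy => by
    obtain ⟨x, hx, rfl⟩ := Finset.mem_image.1 hy
    obtain ⟨p, hp1, hp2⟩ := hp x hx
    refine ⟨p, hp1, ?_⟩
    rw [← hp2, Polynomial.hom_eval₂]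
    rfl
  have htop : Algebra.adjoin R (T' : Set B) = ⊤ := by
    refine eq_top_iff.2 fun b _ => ?_
    obtain ⟨a, rfl⟩ := hq b
    induction hT a using Subring.closure_induction with
    | mem x hx =>
      rcases hx with ⟨r, rfl⟩ | hx
      · exact (Algebra.adjoin R (T' : Set B)).algebraMap_mem r
      · exact Algebra.subset_adjoin (Finset.mem_image_of_mem _ hx)
    | zero => rw [map_zero]; exact zero_mem _
    | one => rw [map_one]; exact one_mem _
    | add x y _ _ hx hy => rw [map_add]; exact add_mem (hx trivial) (hy trivial)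
    | neg x _ hx => rw [map_neg]; exact neg_mem (hx trivial)
    | mul x y _ _ hx hy => rw [map_mul]; exact mul_mem (hx trivial) (hy trivial)
  have h := fg_adjoin_of_finite (R := R) T'.finite_toSet hint
  rw [htop, Algebra.top_toSubmodule] at h
  exact ⟨h⟩

/-- The symmetric algebra is generated by generators of the module. -/
theorem mem_closure_sym {R : Type u} [CommRing R] {M : Type u} [AddCommGroup M] [Module R M] (G : Finset M)
    (hG : Submodule.span R (G : Set M) = ⊤) (a : SymmetricAlgebra R M) :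
    a ∈ Subring.closure (Set.range (algebraMap R (SymmetricAlgebra R M)) ∪ SymmetricAlgebra.ι R M '' (G : Set M)) := by
  induction a using SymmetricAlgebra.induction with
  | algebraMap r => exact Subring.subset_closure (Or.inl ⟨r, rfl⟩)
  | ι m =>
    have hm : m ∈ Submodule.span R (G : Set M) := hG ▸ Submodule.mem_top
    induction hm using Submodule.span_induction with
    | mem x hx => exact Subring.subset_closure (Or.inr ⟨x, hx, rfl⟩)
    | zero => rw [map_zero]; exact zero_mem _
    | add x y _ _ hx hy => rw [map_add]; exact add_mem hx hy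
    | smul r x _ hx =>
      rw [map_smul, Algebra.smul_def]
      exact mul_mem (Subring.subset_closure (Or.inl ⟨r, rfl⟩)) hx
  | mul x y hx hy => exact mul_mem hx hy
  | add x y hx hy => exact add_mem hx hy

theorem mem_closure_symStr {R : CommRingCat.{u}} {M : Type u} [AddCommGroup M] [Module R M] (G : Finset M)
    (hG : Submodule.span R (G : Set M) = ⊤) (T : Finset (SymmetricAlgebra R M))
    (hT : ∀ m ∈ G, SymmetricAlgebra.ι R M m ∈ T) (a : SymmetricAlgebra R M) :
    a ∈ Subring.closure (Set.range (symStr R M).hom ∪ (T : Set (SymmetricAlgebra R M))) := by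
  refine Subring.closure_mono ?_ (mem_closure_sym G hG a)
  rintro x (hx | ⟨m, hm, rfl⟩)
  exacts [Or.inl hx, Or.inr (hT m hm)]

theorem isoSpec_inv_appTop (V : Scheme.{u}) [IsAffine V] :
    V.isoSpec.inv.appTop = (Scheme.ΓSpecIso Γ(V, ⊤)).inv := by
  have h : V.isoSpec.inv.appTop ≫ V.isoSpec.hom.appTop = 𝟙 _ := by
    rw [← Scheme.Hom.comp_appTop, Iso.hom_inv_id]; rfl
  rw [Scheme.isoSpec_hom, Scheme.toSpecΓ_appTop] at h
  exact (Iso.comp_hom_eq_id (Scheme.ΓSpecIso Γ(V, ⊤))).1 h

variable [QuasiSeparatedSpace ↥S]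

set_option maxHeartbeats 3200000 in
/-- A finite space is a limit of finite spaces of finite presentation along closed immersions. -/
theorem exists_limit_finite (hX : IsAlgSpace X) {Y : AlgSp.Space S} {f : X ⟶ Y.obj} (hff : IsFiniteMor f)
    (hqc : IsQuasiCompactSp Y.obj) (hqs : IsQuasiSeparatedSp Y.obj) :
    ∃ (I : Type u) (_ : Preorder I) (_ : IsDirected I (fun a b => a ≤ b)) (_ : Nonempty I) (D : Iᵒᵖ ⥤ Sp S)
      (t : D ⟶ (Functor.const Iᵒᵖ).obj Y.obj) (c : Cone D) (_ : IsLimit c) (e : c.pt ≅ X),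
      (∀ i, IsAlgSpace (D.obj i)) ∧ (∀ (i j : Iᵒᵖ) (φ : i ⟶ j), RepWith @IsClosedImmersion (D.map φ)) ∧
      (∀ i, IsFiniteMor (t.app i) ∧ IsFinitePresentationMor (t.app i)) ∧
      (∀ i, e.inv ≫ c.π.app i ≫ t.app i = f) := by
  classical
  have hf : RepWith @IsFinite f := isFiniteMor_iff.1 hff
  have hfa : RepWith @IsAffineHom f := repWith_mono (fun φ (_ : IsFinite φ) => inferInstanceAs (IsAffineHom φ)) hf
  haveI := Groth.L23.FLF.isQuasicoherent_unit X
  haveI := PushAff.isQuasicoherent_push hf.1 (unitModEt X) hfa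
  haveI := isFiniteType_push hf
  obtain ⟨N, φ, hNqc, hfp, hsur⟩ :=
    Groth.L09.EtSub.exists_fp_epi Y.property hqc hqs ((pushModEt hf.1).obj (unitModEt X))
  haveI := hNqc
  haveI : N.IsFinitePresentation := Groth.L09.EtSub.isFinitePresentation_of_affine N hfp
  haveI : N.IsFiniteType := inferInstance
  obtain ⟨n, hn, -, hnk⟩ := exists_glued (symData N).toData
  obtain ⟨f', hfac, hpb⟩ := exists_toBundle N hf.1 φ hn hnk
  have hp : RepWith @IsAffineHom (symData N).relProj := isAffineMor_iff.1 ((symData N).isAffineMor_relProj Y.property)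
  have hVsp : IsAlgSpace (symData N).relSpec := (symData N).isAlgSpace Y.property
  have hpsep : IsSeparatedMor (symData N).relProj := (isSeparatedMor_iff hp.1).2
    (repWith_mono (fun φ (_ : IsAffineHom φ) => inferInstanceAs (IsSeparated φ)) hp)
  have hf'a : RepWith @IsAffineHom f' := repWith_of_comp_diagonal (q := (symData N).relProj) (by rw [hfac]; exact hfa)
    (repWith_mono (fun φ (_ : IsClosedImmersion φ) => inferInstanceAs (IsAffineHom φ)) hpsep)
  obtain ⟨b⟩ := nonempty_atlas Y hqc hqs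
  let c₀ : Chart Y.obj := atlasChart b
  haveI : IsAffine ((symData N).spec c₀).left := (symData N).isAffine_spec c₀
  have hbs : RepWith @Surjective c₀.v := repWith_surjective_of_map (Y.property.representable_from_yon _)
    fun x => by
      obtain ⟨e, he⟩ := b.surj x
      exact ⟨_, (Points.ofPt_eq_map_ofScheme _ e).symm.trans he⟩
  have hne : RepWith @Etale (n c₀) := repWith_of_isPullback (hn c₀).flip c₀.etale
  have hns : RepWith @Surjective (n c₀) := repWith_of_isPullback (hn c₀).flip hbs
  haveI hE₀ : IsAffine (EtOver.bcObj hf.1 (objC c₀)).obj.left.left := isAffine_bcObj hf.1 hfa (objC c₀)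
  have hrs : Function.Surjective (ringMap N hf.1 φ c₀).hom := fun x => by
    obtain ⟨m, hm⟩ := hsur (objC c₀) (ULift.up x)
    refine ⟨SymmetricAlgebra.ι (Γ₀ (objC c₀)) (Nc N c₀) ((toSect N c₀).symm m), ?_⟩
    rw [ringMap_ι]
    show (sapp φ (objC c₀) (toSect N c₀ ((toSect N c₀).symm m))).down = x
    rw [LinearEquiv.apply_symm_apply, hm]
  have hcl₀ : IsClosedImmersion (toSpec N hf.1 φ c₀).left := by
    haveI : IsClosedImmersion (Spec.map (ringMap N hf.1 φ c₀)) := IsClosedImmersion.spec_of_surjective _ hrs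
    show IsClosedImmersion ((EtOver.bcObj hf.1 (objC c₀)).obj.left.left.toSpecΓ ≫ Spec.map (ringMap N hf.1 φ c₀))
    infer_instance
  have hcl : RepWith @IsClosedImmersion f' := ChevGen.repWith_of_atlas hf'a.1 hne hns (hpb c₀) hcl₀
  let V : AlgSp.Space S := ⟨(symData N).relSpec, hVsp⟩
  have hVqc : IsQuasiCompactSp V.obj := qcSp_of_surjective hVsp (n c₀) (fun x => by
      obtain ⟨e, he⟩ := surjective_ofPt hns x
      exact ⟨_, (Points.ofPt_eq_map_ofScheme _ e).symm.trans he⟩)
    ⟨(symData N).spec c₀, 𝟙 _, repWith_of_isIso _, repWith_of_isIso _, inferInstance⟩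
  have hVqs : IsQuasiSeparatedSp V.obj := qsSp_of_affine hqs hp
  let U₀ : EtOver V.obj := EtOver.mk (n c₀) hne
  haveI : IsAffine U₀.obj.left.left := inferInstanceAs (IsAffine ((symData N).spec c₀).left)
  let a : Atlas V.obj := ⟨U₀, ‹_›, surjective_ofPt hns, fun E _ => Groth.L23.GenSub.nonempty_pairCover hVqs E U₀⟩
  -- monic relations
  obtain ⟨G, hG⟩ := (inferInstance : Module.Finite (Γ₀ (objC c₀)) (Nc N c₀)).fg_top
  have hfin₀ : (EtOver.bcπ hf.1 (objC c₀)).left.appTop.hom.Finite := by
    haveI : IsFinite (EtOver.bcπ hf.1 (objC c₀)).left := repWith_snd hf (objC c₀).obj.hom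
    exact ((HasAffineProperty.iff_of_isAffine (P := @IsFinite)).1 ‹_›).2
  have hint : ∀ m : Nc N c₀, ∃ p : Polynomial (Γ₀ (objC c₀)), p.Monic ∧
      (ringMap N hf.1 φ c₀).hom (p.eval₂ ((symData N).str c₀).hom (SymmetricAlgebra.ι _ _ m)) = 0 := fun m => by
    obtain ⟨p, hp1, hp2⟩ := hfin₀.to_isIntegral (fnHom N hf.1 φ c₀ m)
    refine ⟨p, hp1, ?_⟩
    rw [Polynomial.hom_eval₂, ringMap_ι, ← CommRingCat.hom_comp, symStr_ringMap]
    exact hp2
  choose p hpm hpz using hint
  let T : Finset ((symData N).A c₀) := (G.finite_toSet.image (SymmetricAlgebra.ι (Γ₀ (objC c₀)) (Nc N c₀))).toFinset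
  let ψ : (symData N).A c₀ ≅ Γ(((symData N).spec c₀).left, ⊤) := (Scheme.ΓSpecIso _).symm
  let t₀ : Finset Γ(((symData N).spec c₀).left, ⊤) :=
    G.image fun m => ψ.hom.hom ((p m).eval₂ ((symData N).str c₀).hom (SymmetricAlgebra.ι _ _ m))
  have ht₀ : ∀ x ∈ t₀, x ∈ (idealOfRep hcl.1).ideal a.U a.aff := fun x hx => by
    obtain ⟨m, hm, rfl⟩ := Finset.mem_image.1 hx
    show (EtOver.bcπ hcl.1 a.U).left.appTop.hom _ = 0
    let e := (hcl.1.isPullback (n c₀)).isoIsPullback _ _ (hpb c₀)
    obtain ⟨l, hl⟩ := (yon S).map_surjective e.hom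
    have hlw : l ≫ toSpec N hf.1 φ c₀ = hcl.1.snd (n c₀) := (yon S).map_injective (by
      rw [Functor.map_comp, hl]
      exact IsPullback.isoIsPullback_hom_snd _ _ _ _)
    show (hcl.1.snd (n c₀)).left.appTop.hom _ = 0
    rw [← hlw, Over.comp_left, Scheme.Hom.comp_appTop]
    show l.left.appTop.hom ((toSpec N hf.1 φ c₀).left.appTop.hom _) = 0
    rw [show (toSpec N hf.1 φ c₀).left.appTop.hom (ψ.hom.hom ((p m).eval₂ ((symData N).str c₀).hom
      (SymmetricAlgebra.ι _ _ m))) = 0 from ?_, map_zero]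
    show ((Scheme.ΓSpecIso _).inv ≫ ((EtOver.bcObj hf.1 (objC c₀)).obj.left.left.toSpecΓ ≫
      Spec.map (ringMap N hf.1 φ c₀)).appTop).hom _ = 0
    rw [Scheme.Hom.comp_appTop, ← Scheme.ΓSpecIso_inv_naturality_assoc, Scheme.toSpecΓ_appTop, Iso.inv_hom_id,
      Category.comp_id]
    exact hpz m
  obtain ⟨K, hK, hd, hne', D, t, cn, hcn, e, h0, h1, h2, h3⟩ :=
    ChevGen.exists_limit_fp_atlas hVqc hVqs (X := V) hcl a t₀ ht₀
  let t' : D ⟶ (Functor.const Kᵒᵖ).obj Y.obj := t ≫ (Functor.const Kᵒᵖ).map (symData N).relProj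
  refine ⟨K, hK, hd, hne', D, t', cn, hcn, e, h0, h1, fun i => ?_, fun i => ?_⟩
  swap
  · show e.inv ≫ cn.π.app i ≫ t.app i ≫ (symData N).relProj = f
    rw [← hfac, ← h3 i, Category.assoc, Category.assoc]
  obtain ⟨hz, hzfp, hzt⟩ := h2 i
  show IsFiniteMor (t.app i ≫ (symData N).relProj) ∧ IsFinitePresentationMor (t.app i ≫ (symData N).relProj)
  have hza : RepWith @IsAffineHom (t.app i ≫ (symData N).relProj) :=
    repWith_comp (repWith_mono (fun φ (_ : IsClosedImmersion φ) => inferInstanceAs (IsAffineHom φ)) hz) hp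
  have sq := (hz.1.isPullback (n c₀)).paste_vert (hn c₀)
  rw [← Functor.map_comp] at sq
  haveI hzc : IsClosedImmersion (hz.1.snd (n c₀)).left := repWith_snd hz _
  haveI hzl : LocallyOfFinitePresentation (hz.1.snd (n c₀)).left :=
    repWith_snd (repWith_of_locP etLocal_lfp hVsp hz.1 hzfp.1) _
  haveI : IsAffine ((symData N).toData.N c₀).left := inferInstanceAs (IsAffine ((symData N).spec c₀).left)
  haveI : IsAffine (hz.1.pullback (n c₀)).left := isAffine_of_isAffineHom (hz.1.snd (n c₀)).left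
  have hproj : ((symData N).proj c₀).left.appTop = (symData N).str c₀ ≫ ψ.hom := by
    show (Spec.map ((symData N).str c₀) ≫ c₀.V.left.isoSpec.inv).appTop = _
    rw [Scheme.Hom.comp_appTop]
    rw [isoSpec_inv_appTop]
    exact (Scheme.ΓSpecIso_inv_naturality _).symm
  have hfin : IsFinite (hz.1.snd (n c₀) ≫ (symData N).proj c₀).left := by
    refine (HasAffineProperty.iff_of_isAffine (P := @IsFinite)).2 ⟨inferInstance, ?_⟩
    rw [Over.comp_left, Scheme.Hom.comp_appTop, hproj, Category.assoc]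
    refine finite_of_monics _ _ ?_ T (fun x => mem_closure_symStr G hG T (fun m hm => (Set.Finite.mem_toFinset _).2 ⟨m, hm, rfl⟩) x) fun x hx => ?_
    · rw [CommRingCat.hom_comp, RingHom.coe_comp]
      exact ((HasAffineProperty.iff_of_isAffine (P := @IsClosedImmersion)).1 hzc).2.comp
        (ConcreteCategory.bijective_of_isIso ψ.hom).2
    · obtain ⟨m, hm, rfl⟩ := (Set.Finite.mem_toFinset _).1 hx
      exact ⟨p m, hpm m, hzt _ (Finset.mem_image_of_mem _ hm)⟩
  have hlfp : LocallyOfFinitePresentation (hz.1.snd (n c₀) ≫ (symData N).proj c₀).left := by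
    haveI : LocallyOfFinitePresentation ((symData N).proj c₀).left := by
      show LocallyOfFinitePresentation (Spec.map ((symData N).str c₀) ≫ c₀.V.left.isoSpec.inv)
      haveI : LocallyOfFinitePresentation (Spec.map ((symData N).str c₀)) :=
        (HasRingHomProperty.Spec_iff (P := @LocallyOfFinitePresentation)).2 (finitePresentation_symData N c₀)
      infer_instance
    rw [Over.comp_left]
    infer_instance
  have hFin : RepWith @IsFinite (t.app i ≫ (symData N).relProj) :=
    ChevGen.repWith_of_atlas hza.1 c₀.etale hbs sq hfin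
  refine ⟨isFiniteMor_iff.2 hFin, locP_of_repWith etLocal_lfp (ChevGen.repWith_of_atlas hza.1 c₀.etale hbs sq hlfp),
    isQuasiCompactMor_of_repWith (repWith_mono (fun φ (_ : IsFinite φ) => inferInstanceAs (QuasiCompact φ)) hFin),
    isQuasiSeparatedMor_of_isFinite hFin⟩

end Groth.L23.RelSpec
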