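import Groth.Agent.L23.RelSpec.System

/-!
# One stage: an affine finitely presented space under a given affine space
-/

universe u

open CategoryTheory CategoryTheory.Limits AlgebraicGeometry Opposite AlgSp

set_option autoImplicit false
set_option linter.style.haveILetI false
set_option backward.isDefEq.respectTransparency false
set_option backward.isDefEq.respectTransparency.types false

noncomputable section

namespace Groth.L23.RelSpec

open Groth.L23.Norm Groth.L23.GlobSec

variable {S : Scheme.{u}} {X : Sp S} {Y : AlgSp.Space S} {f : X ⟶ Y.obj}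

/-- An affine space over the base with a map from the given one, and its chart over a chart of the base. -/
structure Bun (hfa : RepWith @IsAffineHom f) (c : Chart Y.obj) (hcs : RepWith @Surjective c.v) : Type (u + 2) where
  V : AlgSp.Space S
  p : V.obj ⟶ Y.obj
  hp : RepWith @IsAffineHom p
  T : Over S
  q : T ⟶ c.V
  [aff : IsAffine T.left]
  n : (yon S).obj T ⟶ V.obj
  sq : IsPullback n ((yon S).map q) p c.v
  g : X ⟶ V.obj
  fac : g ≫ p = f
  γ : hfa.1.pullback c.v ⟶ T
  sqg : IsPullback (hfa.1.fst c.v) ((yon S).map γ) g n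
  γq : γ ≫ q = hfa.1.snd c.v
  lfp : LocallyOfFinitePresentation q.left

attribute [instance] Bun.aff

namespace Bun

variable {hfa : RepWith @IsAffineHom f} {c : Chart Y.obj} {hcs : RepWith @Surjective c.v} (B : Bun hfa c hcs)

/-- Functions on the chart. -/
abbrev ring : CommRingCat.{u} := Γ(B.T.left, ⊤)

/-- Restriction of functions to the given space. -/
abbrev π : B.ring ⟶ Γ((hfa.1.pullback c.v).left, ⊤) := B.γ.left.appTop

theorem etale_n : RepWith @Etale B.n := repWith_of_isPullback B.sq.flip c.etale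

theorem surjective_n : RepWith @Surjective B.n := repWith_of_isPullback B.sq.flip hcs

theorem epi_n : Epi B.n := epi_of_repWith _ B.etale_n B.surjective_n

/-- The etale chart as an object of the site. -/
def U₀ : EtOver B.V.obj := EtOver.mk B.n B.etale_n

instance : IsAffine B.U₀.obj.left.left := B.aff

theorem qs (hqs : IsQuasiSeparatedSp Y.obj) : IsQuasiSeparatedSp B.V.obj := qsSp_of_affine hqs B.hp

theorem qc : IsQuasiCompactSp B.V.obj := qcSp_of_surjective B.V.property B.n (fun x => by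
    obtain ⟨e, he⟩ := surjective_ofPt B.surjective_n x
    exact ⟨_, (Points.ofPt_eq_map_ofScheme _ e).symm.trans he⟩)
  ⟨B.T, 𝟙 _, repWith_of_isIso _, repWith_of_isIso _, inferInstance⟩

/-- The atlas. -/
def atlas [QuasiSeparatedSpace ↥S] (hqs : IsQuasiSeparatedSp Y.obj) : Atlas B.V.obj :=
  ⟨B.U₀, B.aff, surjective_ofPt B.surjective_n, fun E _ => Groth.L23.GenSub.nonempty_pairCover (B.qs hqs) E B.U₀⟩

theorem affine_g : RepWith @IsAffineHom B.g :=
  repWith_of_comp_diagonal (q := B.p) (by rw [B.fac]; exact hfa)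
    (repWith_mono (fun φ (_ : IsClosedImmersion φ) => inferInstanceAs (IsAffineHom φ)) ((isSeparatedMor_iff B.hp.1).2
      (repWith_mono (fun φ (_ : IsAffineHom φ) => inferInstanceAs (IsSeparated φ)) B.hp)))

/-- An ideal on the chart coming from one of finite type vanishing on the given space. -/
def IsAdm (t : Finset B.ring) (j : Ideal B.ring) : Prop :=
  (∀ x ∈ t, x ∈ j) ∧ ∃ I : IdealEt B.V.obj, I.IsQCoh ∧
    (∀ (E : EtOver B.V.obj) (hE : IsAffine E.obj.left.left), (I.ideal E hE).FG) ∧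
      I ≤ idealOfRep B.affine_g.1 ∧ I.ideal B.U₀ B.aff = j

theorem mem_ker_iff (x : B.ring) : x ∈ (idealOfRep B.affine_g.1).ideal B.U₀ B.aff ↔ B.π.hom x = 0 :=
  mem_idealOfRep_iff B.affine_g.1 B.U₀ B.sqg x

theorem IsAdm.ker {t : Finset B.ring} {j : Ideal B.ring} (h : B.IsAdm t j) (x : B.ring) (hx : x ∈ j) :
    B.π.hom x = 0 := by
  obtain ⟨-, I, -, -, hle, hj⟩ := h
  exact (B.mem_ker_iff x).1 (hle B.U₀ B.aff (hj.ge hx))

theorem IsAdm.fg {t : Finset B.ring} {j : Ideal B.ring} (h : B.IsAdm t j) : j.FG := by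
  obtain ⟨-, I, -, hfg, -, hj⟩ := h
  exact hj ▸ hfg B.U₀ B.aff

theorem exists_adm [QuasiSeparatedSpace ↥S] (hqs : IsQuasiSeparatedSp Y.obj) (t t' : Finset B.ring)
    (ht : ∀ x ∈ t, B.π.hom x = 0) (ht' : ∀ x ∈ t', B.π.hom x = 0) :
    ∃ j, B.IsAdm t j ∧ ∀ x ∈ t', x ∈ j := by
  classical
  obtain ⟨I, h1, h2, h3, h4⟩ := IdealFt.exists_ft_le B.V.property B.qc (B.qs hqs) (idealOfRep B.affine_g.1)
    (CutOut.idealOfRep_isQCoh
      (repWith_mono (fun φ (_ : IsAffineHom φ) => inferInstanceAs (QuasiCompact φ)) B.affine_g))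
    B.U₀ (t ∪ t') fun x hx => (B.mem_ker_iff x).2 (by
      rcases Finset.mem_union.1 hx with h | h
      exacts [ht x h, ht' x h])
  exact ⟨_, ⟨fun x hx => h4 x (Finset.mem_union_left _ hx), I, h1, h2, h3, rfl⟩,
    fun x hx => h4 x (Finset.mem_union_right _ hx)⟩

/-- The closed subspace of an admissible ideal. -/
theorem exists_piece [QuasiSeparatedSpace ↥S] (hqs : IsQuasiSeparatedSp Y.obj) {t : Finset B.ring} {j : Ideal B.ring}
    (h : B.IsAdm t j) :
    ∃ (Z : Sp S) (i : Z ⟶ B.V.obj) (W : Over S) (w : W ⟶ B.T) (fst : (yon S).obj W ⟶ Z),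
      IsAlgSpace Z ∧ Mono i ∧ RepWith @IsAffineHom (i ≫ B.p) ∧ IsFinitePresentationMor i ∧ IsAffine W.left ∧
      IsClosedImmersion w.left ∧ LocallyOfFinitePresentation w.left ∧
      IsPullback fst ((yon S).map w) i B.n ∧ Epi fst ∧
      (∀ x, w.left.appTop.hom x = 0 ↔ x ∈ j) := by
  obtain ⟨-, I, hI, hfg, -, hj⟩ := h
  obtain ⟨Z, hZ, i, hi⟩ := CutOut.exists_isCutOutBy B.V.property hI
  obtain ⟨hcl, hval⟩ := id hi
  have sq := hcl.1.isPullback B.n
  haveI : IsClosedImmersion (hcl.1.snd B.n).left := repWith_prop hcl sq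
  have hifp := ChevGen.isFinitePresentationMor_of_fg (X := B.V) hi (B.atlas hqs) (hfg B.U₀ B.aff)
  refine ⟨Z, i, _, hcl.1.snd B.n, hcl.1.fst B.n, hZ, mono_of_closedImmersion hcl,
    repWith_comp (repWith_mono (fun φ (_ : IsClosedImmersion φ) => inferInstanceAs (IsAffineHom φ)) hcl) B.hp, hifp,
    isAffine_of_isAffineHom (hcl.1.snd B.n).left, inferInstance,
    repWith_prop (repWith_of_locP etLocal_lfp B.V.property hcl.1 hifp.1) sq, sq,
    epi_of_repWith _ (repWith_of_isPullback sq.flip B.etale_n) (repWith_of_isPullback sq.flip B.surjective_n),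
    fun x => ?_⟩
  rw [← hj, ← hval]
  exact (mem_idealOfRep_iff hcl.1 B.U₀ sq x).symm

end Bun

end Groth.L23.RelSpec
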