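import Groth.Agent.L23.RelSpec.VecBundle
import Groth.Agent.L23.Epi
import Groth.Agent.L09.EtSub.SubObj

/-!
# Functoriality of relative spectra
-/

universe u

open CategoryTheory CategoryTheory.Limits AlgebraicGeometry Opposite AlgSp

set_option autoImplicit false
set_option linter.style.haveILetI false
set_option backward.isDefEq.respectTransparency false
set_option backward.isDefEq.respectTransparency.types false

noncomputable section

namespace Groth.L23.RelSpec

open Groth.L23.Norm Groth.L09.ModEt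

variable {S : Scheme.{u}} {G : Sp S}

/-- A morphism of algebras on the charts. -/
structure AlgHomData (B B' : AlgData G) where
  app : ∀ c, B.A c ⟶ B'.A c
  str : ∀ c, B.str c ≫ app c = B'.str c
  nat : ∀ {c' c : Chart G} (r : Refine c' c), B.map r ≫ app c' = app c ≫ B'.map r

variable {B B' : AlgData G} (h : AlgHomData B B')

/-- The map of spectra over a chart. -/
def AlgHomData.spec (c : Chart G) : B'.spec c ⟶ B.spec c := Over.homMk (Spec.map (h.app c)) (by
  show Spec.map (h.app c) ≫ Spec.map (B.str c) ≫ c.V.left.isoSpec.inv ≫ c.V.hom = _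
  rw [← Spec.map_comp_assoc, h.str]
  rfl)

theorem AlgHomData.spec_proj (c : Chart G) : h.spec c ≫ B.proj c = B'.proj c := Over.OverMorphism.ext (by
  show Spec.map (h.app c) ≫ Spec.map (B.str c) ≫ c.V.left.isoSpec.inv = Spec.map (B'.str c) ≫ c.V.left.isoSpec.inv
  rw [← Spec.map_comp_assoc, h.str])

theorem AlgHomData.specMap_spec {c' c : Chart G} (r : Refine c' c) :
    B'.specMap r ≫ h.spec c = h.spec c' ≫ B.specMap r := Over.OverMorphism.ext (by
  show Spec.map (B'.map r) ≫ Spec.map (h.app c) = Spec.map (h.app c') ≫ Spec.map (B.map r)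
  rw [← Spec.map_comp, ← Spec.map_comp, h.nat])

/-- The map of relative spectra. -/
theorem exists_relMap {n : ∀ c : Chart G, (yon S).obj (B.spec c) ⟶ B.relSpec}
    (hn : ∀ c, IsPullback (n c) ((yon S).map (B.proj c)) B.relProj c.v)
    (hnk : ∀ (c : Chart G) {Z : Over S} (k : Z ⟶ B.spec c) (e : _),
        (Elem.restrict k (homEquiv B.toData _ (n c))).h c (𝟙 Z) (k ≫ B.proj c) e = k)
    {n' : ∀ c : Chart G, (yon S).obj (B'.spec c) ⟶ B'.relSpec}
    (hn' : ∀ c, IsPullback (n' c) ((yon S).map (B'.proj c)) B'.relProj c.v)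
    (hn'c : ∀ {c' c : Chart G} (r : Refine c' c), (yon S).map (B'.specMap r) ≫ n' c = n' c') :
    ∃ m : B'.relSpec ⟶ B.relSpec, m ≫ B.relProj = B'.relProj ∧ ∀ c, n' c ≫ m = (yon S).map (h.spec c) ≫ n c := by
  let e : ∀ c : Chart G, pullback B'.relProj c.v ≅ (yon S).obj (B'.spec c) := fun c =>
    (IsPullback.of_hasPullback B'.relProj c.v).isoIsPullback _ _ (hn' c)
  obtain ⟨m, h1, h2⟩ := exists_map_glued B'.relProj B.toData (fun c => (e c).hom ≫ (yon S).map (h.spec c))
    (fun c => by
      show ((e c).hom ≫ (yon S).map (h.spec c)) ≫ (yon S).map (B.proj c) = _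
      rw [Category.assoc, ← Functor.map_comp, h.spec_proj]
      exact IsPullback.isoIsPullback_hom_snd _ _ _ _)
    (fun {c' c} r => by
      show _ ≫ (e c).hom ≫ (yon S).map (h.spec c) = ((e c').hom ≫ (yon S).map (h.spec c')) ≫ (yon S).map (B.specMap r)
      rw [Category.assoc, ← Functor.map_comp, ← h.specMap_spec, Functor.map_comp, ← Category.assoc, ← Category.assoc]
      congr 1
      refine (hn' c).hom_ext ?_ ?_
      · rw [Category.assoc, IsPullback.isoIsPullback_hom_fst, Category.assoc, pullback.lift_fst, Category.comp_id]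
        rw [hn'c r]
        exact (IsPullback.isoIsPullback_hom_fst _ _ _ _).symm
      · rw [Category.assoc, IsPullback.isoIsPullback_hom_snd, Category.assoc, pullback.lift_snd]
        refine Eq.trans ?_ (congrArg ((e c').hom ≫ ·) ((congrArg (yon S).map (B'.specMap_isPullback r).w).symm.trans
          ((yon S).map_comp _ _)))
        rw [Functor.map_comp, ← Category.assoc]
        exact congrArg (· ≫ (yon S).map r.a) (IsPullback.isoIsPullback_hom_snd _ _ _ _).symm)
    hn hnk
  refine ⟨m, h1, fun c => ?_⟩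
  rw [← cancel_epi (e c).hom, ← Category.assoc, IsPullback.isoIsPullback_hom_fst, ← Category.assoc]
  exact (h2 c).w

section SymLin

variable {R R' : CommRingCat.{u}} {φ : R ⟶ R'} {M M₁ M₂ M' M₁' : Type u} [AddCommGroup M] [Module R M] [AddCommGroup M₁]
  [Module R M₁] [AddCommGroup M₂] [Module R M₂] [AddCommGroup M'] [Module R' M'] [AddCommGroup M₁'] [Module R' M₁']

/-- The map of symmetric algebras of a linear map. -/
def symLin (l : M →ₗ[R] M₁) : CommRingCat.of (SymmetricAlgebra R M) ⟶ CommRingCat.of (SymmetricAlgebra R M₁) :=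
  symMap (𝟙 R) l.toAddMonoidHom fun r m => l.map_smul r m

theorem symLin_ι (l : M →ₗ[R] M₁) (m : M) :
    (symLin l).hom (SymmetricAlgebra.ι R M m) = SymmetricAlgebra.ι R M₁ (l m) := symMap_ι _ _ m

theorem symStr_symLin (l : M →ₗ[R] M₁) : symStr R M ≫ symLin l = symStr R M₁ :=
  (symStr_symMap _ _).trans (Category.id_comp _)

theorem symLin_comp (l : M →ₗ[R] M₁) (l' : M₁ →ₗ[R] M₂) : symLin l ≫ symLin l' = symLin (l'.comp l) := by
  refine sym_hom_ext ?_ fun m => ?_
  · rw [← Category.assoc, symStr_symLin, symStr_symLin, symStr_symLin]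
  · show (symLin l').hom ((symLin l).hom _) = _
    rw [symLin_ι, symLin_ι, symLin_ι]
    rfl

theorem symLin_id (l : M →ₗ[R] M) (h : ∀ m, l m = m) : symLin l = 𝟙 _ := by
  refine sym_hom_ext ?_ fun m => ?_
  · rw [symStr_symLin, Category.comp_id]
  · rw [symLin_ι, h]
    rfl

theorem symMap_symLin (a : M →+ M') (ha : ∀ (r : R) (m : M), a (r • m) = φ.hom r • a m) (b : M₁ →+ M₁')
    (hb : ∀ (r : R) (m : M₁), b (r • m) = φ.hom r • b m) (l : M →ₗ[R] M₁) (l' : M' →ₗ[R'] M₁')
    (h : ∀ m, l' (a m) = b (l m)) : symMap φ a ha ≫ symLin l' = symLin l ≫ symMap φ b hb := by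
  refine sym_hom_ext ?_ fun m => ?_
  · rw [← Category.assoc, symStr_symMap, Category.assoc, symStr_symLin, ← Category.assoc, symStr_symLin,
      symStr_symMap]
  · show (symLin l').hom ((symMap φ a ha).hom _) = (symMap φ b hb).hom ((symLin l).hom _)
    rw [symMap_ι, symLin_ι, symLin_ι, symMap_ι, h]

end SymLin

/-- The map of sections on a chart. -/
def secLin {N N' : ModEt G} [N.IsFiniteType] [N.IsQuasicoherent] [N'.IsFiniteType] [N'.IsQuasicoherent]
    (ν : N ⟶ N') (c : Chart G) : Nc N c →ₗ[Γ₀ (objC c)] Nc N' c :=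
  (toSect N' c).symm.toLinearMap.comp ((sapp ν (objC c)).comp (toSect N c).toLinearMap)

theorem secLin_res {N N' : ModEt G} [N.IsFiniteType] [N.IsQuasicoherent] [N'.IsFiniteType] [N'.IsQuasicoherent]
    (ν : N ⟶ N') {c' c : Chart G} (r : Refine c' c) (m : Nc N c) :
    secLin ν c' (resC N r m) = resC N' r (secLin ν c m) := by
  show (toSect N' c').symm (sapp ν (objC c') (toSect N c' ((toSect N c').symm (res N (objR r) (toSect N c m))))) =
    (toSect N' c').symm (res N' (objR r) (toSect N' c ((toSect N' c).symm (sapp ν (objC c) (toSect N c m)))))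
  rw [LinearEquiv.apply_symm_apply, LinearEquiv.apply_symm_apply, sapp_res]

theorem secLin_comp {N N' N'' : ModEt G} [N.IsFiniteType] [N.IsQuasicoherent] [N'.IsFiniteType]
    [N'.IsQuasicoherent] [N''.IsFiniteType] [N''.IsQuasicoherent] (ν : N ⟶ N') (ν' : N' ⟶ N'') (c : Chart G) :
    secLin (ν ≫ ν') c = (secLin ν' c).comp (secLin ν c) := by
  refine LinearMap.ext fun m => ?_
  show (toSect N'' c).symm (sapp (ν ≫ ν') (objC c) (toSect N c m)) =
    (toSect N'' c).symm (sapp ν' (objC c) (toSect N' c ((toSect N' c).symm (sapp ν (objC c) (toSect N c m)))))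
  rw [LinearEquiv.apply_symm_apply]
  rfl

/-- The map of algebras of a map of modules. -/
def symHom {N N' : ModEt G} [N.IsFiniteType] [N.IsQuasicoherent] [N'.IsFiniteType] [N'.IsQuasicoherent]
    (ν : N ⟶ N') : AlgHomData (symData N) (symData N') where
  app c := symLin (R := Γ₀ (objC c)) (secLin ν c)
  str c := symStr_symLin (R := Γ₀ (objC c)) (secLin ν c)
  nat {c' c} r := symMap_symLin (R := Γ₀ (objC c)) (R' := Γ₀ (objC c')) (resC N r) (resC_smul N r) (resC N' r)
    (resC_smul N' r) (secLin ν c) (secLin ν c') (secLin_res ν r)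

theorem symHom_ringMap {N N' : ModEt G} [N.IsFiniteType] [N.IsQuasicoherent] [N'.IsFiniteType] [N'.IsQuasicoherent]
    (ν : N ⟶ N') {F : Sp S} {f : F ⟶ G} (hf : Representable f) (φ : N ⟶ (pushModEt hf).obj (unitModEt F))
    (φ' : N' ⟶ (pushModEt hf).obj (unitModEt F)) (hνφ : ν ≫ φ' = φ) (c : Chart G) :
    (symHom ν).app c ≫ ringMap N' hf φ' c = ringMap N hf φ c := by
  refine sym_hom_ext (R := Γ₀ (objC c)) (M := Nc N c) ?_ fun m => ?_
  · rw [← Category.assoc]
    exact ((congrArg (· ≫ ringMap N' hf φ' c) ((symHom ν).str c)).trans (symStr_ringMap N' hf φ' c)).trans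
      (symStr_ringMap N hf φ c).symm
  · subst hνφ
    show (ringMap N' hf φ' c).hom ((symLin (secLin ν c)).hom _) = _
    rw [symLin_ι, ringMap_ι]
    refine Eq.trans ?_ (ringMap_ι N hf (ν ≫ φ') c m).symm
    show (sapp φ' (objC c) (toSect N' c ((toSect N' c).symm (sapp ν (objC c) (toSect N c m))))).down =
      (sapp (ν ≫ φ') (objC c) (toSect N c m)).down
    rw [LinearEquiv.apply_symm_apply]
    rfl

theorem symHom_app_comp {N N' N'' : ModEt G} [N.IsFiniteType] [N.IsQuasicoherent] [N'.IsFiniteType]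
    [N'.IsQuasicoherent] [N''.IsFiniteType] [N''.IsQuasicoherent] (ν : N ⟶ N') (ν' : N' ⟶ N'') (c : Chart G) :
    (symHom (ν ≫ ν')).app c = (symHom ν).app c ≫ (symHom ν').app c := by
  show symLin (secLin (ν ≫ ν') c) = symLin (secLin ν c) ≫ symLin (secLin ν' c)
  rw [symLin_comp, secLin_comp]

theorem symHom_app_id {N : ModEt G} [N.IsFiniteType] [N.IsQuasicoherent] (c : Chart G) :
    (symHom (𝟙 N)).app c = 𝟙 _ :=
  symLin_id _ fun m => (toSect N c).symm_apply_apply m

end Groth.L23.RelSpec
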