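import Groth.Agent.L23.NormGlobal
import Groth.Agent.L23.Subspace

/-!
# Relative spectra over the affine etale charts of a space
-/

universe u

open CategoryTheory CategoryTheory.Limits AlgebraicGeometry Opposite AlgSp

set_option autoImplicit false
set_option linter.style.haveILetI false
set_option backward.isDefEq.respectTransparency false
set_option backward.isDefEq.respectTransparency.types false

noncomputable section

namespace Groth.L23.RelSpec

open Groth.L23.Norm

variable {S : Scheme.{u}} {G : Sp S}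

/-- Functions on a chart. -/
abbrev ringOf (c : Chart G) : CommRingCat.{u} := Γ(c.V.left, ⊤)

/-- A quasi-coherent algebra on the affine etale charts. -/
structure AlgData (G : Sp S) : Type (u + 1) where
  A : Chart G → CommRingCat.{u}
  str : ∀ c, ringOf c ⟶ A c
  map : ∀ {c' c : Chart G}, Refine c' c → (A c ⟶ A c')
  isPushout : ∀ {c' c : Chart G} (r : Refine c' c), IsPushout (str c) r.a.left.appTop (map r) (str c')
  map_comp : ∀ {c'' c' c : Chart G} (r : Refine c'' c') (s : Refine c' c), map (r.comp s) = map s ≫ map r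

variable (B : AlgData G)

/-- The spectrum over a chart. -/
def AlgData.spec (c : Chart G) : Over S := Over.mk (Spec.map (B.str c) ≫ c.V.left.isoSpec.inv ≫ c.V.hom)

/-- Its projection. -/
def AlgData.proj (c : Chart G) : B.spec c ⟶ c.V := Over.homMk (Spec.map (B.str c) ≫ c.V.left.isoSpec.inv)
  (Category.assoc _ _ _)

/-- The transition maps. -/
def AlgData.specMap {c' c : Chart G} (r : Refine c' c) : B.spec c' ⟶ B.spec c := Over.homMk (Spec.map (B.map r)) (by
  show Spec.map (B.map r) ≫ Spec.map (B.str c) ≫ c.V.left.isoSpec.inv ≫ c.V.hom =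
    Spec.map (B.str c') ≫ c'.V.left.isoSpec.inv ≫ c'.V.hom
  rw [← Spec.map_comp_assoc, (B.isPushout r).w, Spec.map_comp_assoc]
  congr 1
  rw [← Category.assoc, Scheme.isoSpec_inv_naturality, Category.assoc, Over.w r.a])

theorem AlgData.specMap_isPullback {c' c : Chart G} (r : Refine c' c) :
    IsPullback (B.specMap r) (B.proj c') (B.proj c) r.a := by
  refine isPullback_over ?_
  show IsPullback (Spec.map (B.map r)) (Spec.map (B.str c') ≫ c'.V.left.isoSpec.inv)
    (Spec.map (B.str c) ≫ c.V.left.isoSpec.inv) r.a.left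
  have h := isPullback_SpecMap_of_isPushout _ _ _ _ (B.isPushout r)
  have h2 : IsPullback (Spec.map r.a.left.appTop) c'.V.left.isoSpec.inv c.V.left.isoSpec.inv r.a.left :=
    IsPullback.of_vert_isIso ⟨Scheme.isoSpec_inv_naturality r.a.left⟩
  exact h.paste_vert h2

/-- The gluing data. -/
def AlgData.toData : Data G where
  N := B.spec
  ν := B.proj
  map r := B.specMap r
  isPullback r := B.specMap_isPullback r
  map_comp r s := Over.OverMorphism.ext (by
    show Spec.map (B.map (r.comp s)) = Spec.map (B.map r) ≫ Spec.map (B.map s)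
    rw [B.map_comp, Spec.map_comp])

/-- The relative spectrum. -/
abbrev AlgData.relSpec : Sp S := glued B.toData

/-- Its structure map. -/
abbrev AlgData.relProj : B.relSpec ⟶ G := gluedProj B.toData

theorem AlgData.isAffine_spec (c : Chart G) : IsAffine (B.spec c).left := inferInstanceAs (IsAffine (Spec _))

theorem AlgData.isAffineMor_relProj (hG : IsAlgSpace G) : IsAffineMor B.relProj := by
  obtain ⟨n, hn, -, -⟩ := exists_glued B.toData
  intro Z hZ g
  haveI := hZ
  obtain ⟨Z', e, c, y, hZ', he, hes, w⟩ := exists_chart_refine hG g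
  haveI := hZ'
  obtain ⟨W, p, i, sW⟩ : ∃ (W : Over S) (p : W ⟶ B.spec c) (i : W ⟶ Z'), IsPullback p i (B.proj c) y :=
    ⟨_, _, _, IsPullback.of_hasPullback (B.proj c) y⟩
  haveI := B.isAffine_spec c
  haveI : IsAffineHom i.left :=
    MorphismProperty.of_isPullback (sW.map (Over.forget S)) (isAffineHom_of_isAffine (B.proj c).left)
  haveI : IsAffine W.left := isAffine_of_isAffineHom i.left
  have sqX := (sW.map (yon S)).paste_horiz (hn c)
  rw [← w] at sqX
  have sqg := IsPullback.of_hasPullback B.relProj g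
  let p' := sqg.lift ((yon S).map p ≫ n c) ((yon S).map i ≫ (yon S).map e) (by
    rw [Category.assoc, Category.assoc]; exact (Category.assoc _ _ _).symm.trans sqX.w)
  have sqp : IsPullback p' ((yon S).map i) (pullback.snd B.relProj g) ((yon S).map e) :=
    IsPullback.of_right (by rw [sqg.lift_fst]; exact sqX) (sqg.lift_snd _ _ _) sqg
  obtain ⟨A, k, ā, hA, hk, hkq⟩ := exists_affine_of_etale_cover e sqp
  exact ⟨A, ā, inv k ≫ pullback.fst B.relProj g, sqg.of_iso (asIso k) (Iso.refl _) (Iso.refl _) (Iso.refl _)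
    (by simp) (by simp [hkq]) (by simp) (by simp), hA⟩

theorem AlgData.isAlgSpace (hG : IsAlgSpace G) : IsAlgSpace B.relSpec :=
  isAlgSpace_of_representable_to hG (Groth.L23.isAffineMor_iff.1 (B.isAffineMor_relProj hG)).1

variable {F : Sp S} (f : F ⟶ G) (D : Data G) (γ : ∀ c : Chart G, pullback f c.v ⟶ (yon S).obj (D.N c))
  (hγν : ∀ c, γ c ≫ (yon S).map (D.ν c) = pullback.snd f c.v)
  (hγ : ∀ {c' c : Chart G} (r : Refine c' c),
    pullback.map f c'.v f c.v (𝟙 F) ((yon S).map r.a) (𝟙 G) (by simp) (by rw [Category.comp_id, r.fac]) ≫ γ c =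
      γ c' ≫ (yon S).map (D.map r))

include hγν hγ in
set_option maxHeartbeats 800000 in
/-- Maps to the glued space are given chart by chart. -/
theorem exists_map_glued {n : ∀ c : Chart G, (yon S).obj (D.N c) ⟶ glued D}
    (hn : ∀ c, IsPullback (n c) ((yon S).map (D.ν c)) (gluedProj D) c.v)
    (hnk : ∀ (c : Chart G) {Z : Over S} (k : Z ⟶ D.N c) (e : _),
        (Elem.restrict k (homEquiv D _ (n c))).h c (𝟙 Z) (k ≫ D.ν c) e = k) :
    ∃ f' : F ⟶ glued D, f' ≫ gluedProj D = f ∧ ∀ c, IsPullback (pullback.fst f c.v) (γ c) f' (n c) := by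
  let w : ∀ {c' c : Chart G} (r : Refine c' c), pullback f c'.v ⟶ pullback f c.v := fun {c' c} r =>
    pullback.map f c'.v f c.v (𝟙 F) ((yon S).map r.a) (𝟙 G) (by simp) (by rw [Category.comp_id, r.fac])
  have hw₁ : ∀ {c' c : Chart G} (r : Refine c' c), w r ≫ pullback.fst f c.v = pullback.fst f c'.v := fun r => by
    rw [pullback.lift_fst, Category.comp_id]
  have hw₂ : ∀ {c' c : Chart G} (r : Refine c' c), w r ≫ pullback.snd f c.v = pullback.snd f c'.v ≫ (yon S).map r.a :=
    fun r => pullback.lift_snd _ _ _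
  have hτ : ∀ {T : Over S} (y : (yon S).obj T ⟶ F), ∃ E : Elem D T, E.g = y ≫ f ∧
      ∀ (c : Chart G) {W : Over S} (x : W ⟶ T) (y' : W ⟶ c.V) (e : (yon S).map x ≫ E.g = (yon S).map y' ≫ c.v)
        (l : (yon S).obj W ⟶ pullback f c.v), l ≫ pullback.fst f c.v = (yon S).map x ≫ y →
        l ≫ pullback.snd f c.v = (yon S).map y' → (yon S).map (E.h c x y' e) = l ≫ γ c := by
    intro T y
    have hl : ∀ (c : Chart G) {W : Over S} (x : W ⟶ T) (y' : W ⟶ c.V),
        (yon S).map x ≫ y ≫ f = (yon S).map y' ≫ c.v → ∃ h : W ⟶ D.N c,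
        ∀ (l : (yon S).obj W ⟶ pullback f c.v), l ≫ pullback.fst f c.v = (yon S).map x ≫ y →
          l ≫ pullback.snd f c.v = (yon S).map y' → (yon S).map h = l ≫ γ c := fun c W x y' e => by
      obtain ⟨l, hl₁, hl₂⟩ := (IsPullback.of_hasPullback f c.v).exists_lift ((yon S).map x ≫ y) ((yon S).map y')
        (by rw [Category.assoc]; exact e)
      obtain ⟨h, hh⟩ := (yon S).map_surjective (l ≫ γ c)
      exact ⟨h, fun l' h₁ h₂ => by
        rw [hh, (IsPullback.of_hasPullback f c.v).hom_ext (h₁.trans hl₁.symm) (h₂.trans hl₂.symm)]⟩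
    choose h hh using hl
    have hlift : ∀ (c : Chart G) {W : Over S} (x : W ⟶ T) (y' : W ⟶ c.V),
        (yon S).map x ≫ y ≫ f = (yon S).map y' ≫ c.v → ∃ l : (yon S).obj W ⟶ pullback f c.v,
        l ≫ pullback.fst f c.v = (yon S).map x ≫ y ∧ l ≫ pullback.snd f c.v = (yon S).map y' :=
      fun c W x y' e => (IsPullback.of_hasPullback f c.v).exists_lift _ _ (by rw [Category.assoc]; exact e)
    refine ⟨{ g := y ≫ f
              h := fun c W x y' e => h c x y' e
              over := fun c W x y' e => ?_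
              nat := fun c W W' a x y' e e' => ?_
              compat := fun {c' c} r W x y' e e' => ?_ }, rfl, fun c W x y' e l h₁ h₂ => hh c x y' e l h₁ h₂⟩
    · obtain ⟨l, h₁, h₂⟩ := hlift c x y' e
      refine (yon S).map_injective ?_
      rw [Functor.map_comp, hh c x y' e l h₁ h₂, Category.assoc, hγν, h₂]
    · obtain ⟨l, h₁, h₂⟩ := hlift c x y' e
      refine (yon S).map_injective ?_
      rw [Functor.map_comp _ a, hh c x y' e l h₁ h₂, hh c _ _ e' ((yon S).map a ≫ l)
        (by rw [Category.assoc, h₁, Functor.map_comp_assoc]) (by rw [Category.assoc, h₂, Functor.map_comp]),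
        Category.assoc]
    · obtain ⟨l, h₁, h₂⟩ := hlift c' x y' e
      refine (yon S).map_injective ?_
      rw [Functor.map_comp, hh c' x y' e l h₁ h₂, hh c x _ e' (l ≫ w r) (by rw [Category.assoc, hw₁, h₁])
        (by rw [Category.assoc, hw₂ r, reassoc_of% h₂, Functor.map_comp]), Category.assoc, Category.assoc]
      exact congrArg (l ≫ ·) (hγ r).symm
  choose E hEg hEh using @hτ
  obtain ⟨f', hf'⟩ := UHPush.exists_hom_of_yon (fun T y => (homEquiv D T).symm (E y)) fun {T T'} a y => by
    refine (homEquiv D T').injective ?_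
    rw [homEquiv_comp, Equiv.apply_symm_apply, Equiv.apply_symm_apply]
    refine Elem.ext (by rw [hEg]; show _ = (yon S).map a ≫ (E y).g; rw [hEg, Category.assoc]) fun c W x y' e e' => ?_
    obtain ⟨l, h₁, h₂⟩ := (IsPullback.of_hasPullback f c.v).exists_lift ((yon S).map x ≫ (yon S).map a ≫ y)
      ((yon S).map y') (by rw [hEg] at e; simpa using e)
    refine (yon S).map_injective ?_
    show _ = (yon S).map ((E y).h c (x ≫ a) y' _)
    rw [hEh _ c x y' e l h₁ h₂, hEh y c (x ≫ a) y' _ l (by rw [h₁, Functor.map_comp_assoc]) h₂]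
  have hfac : f' ≫ gluedProj D = f := hom_ext_yon fun T y => by
    rw [← Category.assoc, hf', comp_gluedProj, Equiv.apply_symm_apply, hEg]
  have hγn : ∀ c, γ c ≫ n c = pullback.fst f c.v ≫ f' := fun c => hom_ext_yon fun T l => by
    obtain ⟨y', hy'⟩ := (yon S).map_surjective (l ≫ pullback.snd f c.v)
    obtain ⟨k₀, hk₀⟩ := (yon S).map_surjective (l ≫ γ c)
    rw [← Category.assoc, ← Category.assoc, hf', ← hk₀]
    obtain ⟨E₀, hE₀⟩ : ∃ E₀, E₀ = E (l ≫ pullback.fst f c.v) := ⟨_, rfl⟩
    have eg : (yon S).map (𝟙 T) ≫ E₀.g = (yon S).map y' ≫ c.v := by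
      rw [(yon S).map_id, Category.id_comp, hE₀, hEg, Category.assoc, pullback.condition, ← Category.assoc, hy']
    have hk₀' : E₀.h c (𝟙 T) y' eg = k₀ := (yon S).map_injective (by
      subst hE₀
      rw [hEh _ c _ y' eg l (by rw [(yon S).map_id, Category.id_comp]) hy'.symm, hk₀])
    obtain ⟨k₁, h₁, h₂⟩ := (hn c).exists_lift ((homEquiv D T).symm E₀) ((yon S).map y') (by
      rw [comp_gluedProj, Equiv.apply_symm_apply, ← eg, (yon S).map_id, Category.id_comp])
    obtain ⟨k₁, rfl⟩ := (yon S).map_surjective k₁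
    rw [← hE₀, ← h₁]
    congr 2
    rw [← hk₀']
    have := congr_arg (homEquiv D T) h₁
    rw [homEquiv_comp, Equiv.apply_symm_apply] at this
    subst this
    have hk₁ν : k₁ ≫ D.ν c = y' := (yon S).map_injective (by rw [Functor.map_comp]; exact h₂)
    exact ((hnk c k₁ (eg.trans (by rw [← hk₁ν]))).symm.trans (Elem.h_congr _ c rfl hk₁ν _ eg)).symm
  refine ⟨f', hfac, fun c => IsPullback.of_bot ?_ (hγn c).symm (hn c)⟩
  rw [hfac, hγν]
  exact IsPullback.of_hasPullback f c.v

end Groth.L23.RelSpec
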