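import Groth.Agent.L23.RelSpec.Bundle

/-!
# The limit of the admissible closed subspaces of a system of bundles
-/

universe u

open CategoryTheory CategoryTheory.Limits AlgebraicGeometry Opposite AlgSp

set_option autoImplicit false
set_option linter.style.haveILetI false
set_option backward.isDefEq.respectTransparency false
set_option backward.isDefEq.respectTransparency.types false

noncomputable section

namespace Groth.L23.RelSpec

open Groth.L23.Norm Groth.L23.GlobSec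

variable {S : Scheme.{u}} {X : Sp S} {Y : AlgSp.Space S} {f : X ⟶ Y.obj} {hfa : RepWith @IsAffineHom f}
  {c : Chart Y.obj} {hcs : RepWith @Surjective c.v}

/-- A system of bundles, recorded on the chart. -/
structure BunSys (Idx : Type u) [Preorder Idx] (hfa : RepWith @IsAffineHom f) (c : Chart Y.obj)
    (hcs : RepWith @Surjective c.v) : Type (u + 2) where
  B : Idx → Bun hfa c hcs
  μ : ∀ {s t : Idx}, s ≤ t → ((B t).T ⟶ (B s).T)
  μ_q : ∀ {s t : Idx} (h : s ≤ t), μ h ≫ (B s).q = (B t).q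
  γ_μ : ∀ {s t : Idx} (h : s ≤ t), (B t).γ ≫ μ h = (B s).γ
  μ_id : ∀ s : Idx, μ (le_refl s) = 𝟙 _
  μ_comp : ∀ {s t r : Idx} (h : s ≤ t) (h' : t ≤ r), μ h' ≫ μ h = μ (h.trans h')
  m : ∀ {s t : Idx}, s ≤ t → ((B t).V.obj ⟶ (B s).V.obj)
  m_p : ∀ {s t : Idx} (h : s ≤ t), m h ≫ (B s).p = (B t).p
  n_m : ∀ {s t : Idx} (h : s ≤ t), (B t).n ≫ m h = (yon S).map (μ h) ≫ (B s).n
  surj : ∀ x y : Γ((hfa.1.pullback c.v).left, ⊤), ∃ (s : Idx) (p q : (B s).ring),
    (B s).π.hom p = x ∧ (B s).π.hom q = y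

namespace BunSys

variable {Idx : Type u} [Preorder Idx] (H : BunSys Idx hfa c hcs)

/-- Restriction of functions. -/
abbrev τ {s t : Idx} (h : s ≤ t) : (H.B s).ring ⟶ (H.B t).ring := (H.μ h).left.appTop

theorem τ_π {s t : Idx} (h : s ≤ t) : H.τ h ≫ (H.B t).π = (H.B s).π := by
  show (H.μ h).left.appTop ≫ (H.B t).γ.left.appTop = _
  rw [← Scheme.Hom.comp_appTop, ← Over.comp_left, H.γ_μ]

theorem τ_id (s : Idx) (x : (H.B s).ring) : (H.τ (le_refl s)).hom x = x := by
  show (H.μ _).left.appTop.hom x = x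
  rw [H.μ_id, Over.id_left, Scheme.Hom.id_appTop]
  rfl

theorem τ_comp {s t r : Idx} (h : s ≤ t) (h' : t ≤ r) (x : (H.B s).ring) :
    (H.τ h').hom ((H.τ h).hom x) = (H.τ (h.trans h')).hom x := by
  show _ = (H.μ (h.trans h')).left.appTop.hom x
  rw [← H.μ_comp h h', Over.comp_left, Scheme.Hom.comp_appTop]
  rfl

theorem g_m {s t : Idx} (h : s ≤ t) : (H.B t).g ≫ H.m h = (H.B s).g := by
  haveI : Epi (hfa.1.fst c.v) := epi_of_repWith _ (repWith_of_isPullback (hfa.1.isPullback c.v).flip c.etale)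
    (repWith_of_isPullback (hfa.1.isPullback c.v).flip hcs)
  rw [← cancel_epi (hfa.1.fst c.v), ← Category.assoc, (H.B t).sqg.w, Category.assoc, H.n_m, ← Functor.map_comp_assoc,
    H.γ_μ, (H.B s).sqg.w]

set_option maxHeartbeats 1600000 in
/-- The limit. -/
theorem exists_limit [QuasiSeparatedSpace ↥S] [IsDirected Idx (· ≤ ·)] [Nonempty Idx]
    (hqs : IsQuasiSeparatedSp Y.obj) (good : ∀ s, Finset (H.B s).ring)
    (hgood : ∀ s, ∀ x ∈ good s, (H.B s).π.hom x = 0) :
    ∃ (I : Type u) (_ : Preorder I) (_ : IsDirected I (fun a b => a ≤ b)) (_ : Nonempty I) (D : Iᵒᵖ ⥤ Sp S)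
      (t : D ⟶ (Functor.const Iᵒᵖ).obj Y.obj) (cn : Cone D) (_ : IsLimit cn) (e : cn.pt ≅ X),
      (∀ i, IsAlgSpace (D.obj i)) ∧ (∀ (i j : Iᵒᵖ) (φ : i ⟶ j), IsAffineMor (D.map φ)) ∧
      (∀ i, ∃ (s : Idx) (z : D.obj i ⟶ (H.B s).V.obj) (W : Over S) (w : W ⟶ (H.B s).T)
          (fst : (yon S).obj W ⟶ D.obj i),
        t.app i = z ≫ (H.B s).p ∧ RepWith @IsAffineHom (t.app i) ∧ IsFinitePresentationMor z ∧
        IsClosedImmersion w.left ∧ LocallyOfFinitePresentation w.left ∧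
        IsPullback fst ((yon S).map (w ≫ (H.B s).q)) (t.app i) c.v ∧
        (∀ a ∈ good s, w.left.appTop.hom a = 0) ∧
        IsPullback fst ((yon S).map w) z (H.B s).n ∧ e.inv ≫ cn.π.app i ≫ z = (H.B s).g) ∧
      (∀ i, e.inv ≫ cn.π.app i ≫ t.app i = f) := by
  classical
  let K := Σ' s : Idx, {j : Ideal (H.B s).ring // (H.B s).IsAdm (good s) j}
  letI : Preorder K :=
    { le := fun k l => ∃ h : k.1 ≤ l.1, ∀ x ∈ k.2.1, (H.τ h).hom x ∈ l.2.1
      le_refl := fun k => ⟨le_refl _, fun x hx => by rw [H.τ_id]; exact hx⟩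
      le_trans := fun k l r ⟨h, hh⟩ ⟨h', hh'⟩ => ⟨h.trans h', fun x hx => by
        rw [← H.τ_comp h h']; exact hh' _ (hh x hx)⟩ }
  haveI : Nonempty K := by
    obtain ⟨j, hj, -⟩ := (H.B (Classical.arbitrary Idx)).exists_adm hqs _ ∅ (hgood _)
      fun x hx => absurd hx (Finset.notMem_empty x)
    exact ⟨⟨_, j, hj⟩⟩
  have hτπ : ∀ {s t : Idx} (h : s ≤ t) (x : (H.B s).ring), (H.B t).π.hom ((H.τ h).hom x) = (H.B s).π.hom x :=
    fun h x => congrArg (fun φ : _ ⟶ Γ((hfa.1.pullback c.v).left, ⊤) => φ.hom x) (H.τ_π h)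
  haveI hdir : IsDirected K (· ≤ ·) := ⟨fun k l => by
    obtain ⟨s, hk, hl⟩ := directed_of (· ≤ ·) k.1 l.1
    obtain ⟨tk, htk⟩ := k.2.2.fg
    obtain ⟨tl, htl⟩ := l.2.2.fg
    obtain ⟨j, hj, hmem⟩ := (H.B s).exists_adm hqs (good s) (tk.image (H.τ hk).hom ∪ tl.image (H.τ hl).hom) (hgood s)
      fun x hx => by
        rcases Finset.mem_union.1 hx with h | h <;> obtain ⟨y, hy, rfl⟩ := Finset.mem_image.1 h
        · rw [hτπ]; exact Bun.IsAdm.ker _ k.2.2 y (htk.le (Submodule.subset_span hy))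
        · rw [hτπ]; exact Bun.IsAdm.ker _ l.2.2 y (htl.le (Submodule.subset_span hy))
    refine ⟨⟨s, j, hj⟩, ⟨hk, fun x hx => ?_⟩, ⟨hl, fun x hx => ?_⟩⟩
    · suffices H' : k.2.1 ≤ j.comap (H.τ hk).hom from H' hx
      rw [← htk, Submodule.span_le]
      exact fun y hy => hmem _ (Finset.mem_union_left _ (Finset.mem_image_of_mem _ hy))
    · suffices H' : l.2.1 ≤ j.comap (H.τ hl).hom from H' hx
      rw [← htl, Submodule.span_le]
      exact fun y hy => hmem _ (Finset.mem_union_right _ (Finset.mem_image_of_mem _ hy))⟩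
  choose Z i W w wf hZ hmono htaff hifp hWa hwc hwlfp sqW hwfe hwker using
    fun k : K => (H.B k.1).exists_piece hqs k.2.2
  haveI := hmono
  haveI := hWa
  haveI := hwfe
  have hwsurj : ∀ k, Function.Surjective (w k).left.appTop.hom := fun k =>
    ((HasAffineProperty.iff_of_isAffine (P := @IsClosedImmersion)).1 (hwc k)).2
  have hdesc : ∀ (k : K) {P Q : Sp S} (e : Q ⟶ P) [Epi e] (g : P ⟶ (H.B k.1).V.obj),
      (∃ l, l ≫ i k = e ≫ g) → ∃ l : P ⟶ Z k, l ≫ i k = g := fun k {P Q} e _ g ⟨l, hl⟩ => by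
    haveI := effectiveEpi_of_epi e
    refine ⟨EffectiveEpi.desc e l fun g₁ g₂ h => ?_, ?_⟩
    · rw [← cancel_mono (i k), Category.assoc, Category.assoc, hl, reassoc_of% h]
    · rw [← cancel_epi e, EffectiveEpi.fac_assoc, hl]
  have htrans : ∀ (k l : K) (h : k ≤ l), ∃ d : Z l ⟶ Z k, d ≫ i k = i l ≫ H.m h.1 := fun k l h => by
    refine hdesc k (wf l) _ ?_
    obtain ⟨d, hd⟩ := exists_factor_affine (w k) (hwsurj k) (w l ≫ H.μ h.1) fun x hx => by
      rw [Over.comp_left, Scheme.Hom.comp_appTop]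
      exact (hwker l _).2 (h.2 x ((hwker k x).1 hx))
    refine ⟨(yon S).map d ≫ wf k, ?_⟩
    rw [Category.assoc, (sqW k).w, ← Functor.map_comp_assoc, hd, ← Category.assoc, (sqW l).w, Category.assoc, H.n_m,
      Functor.map_comp_assoc]
  choose d hd using htrans
  have hnepi : ∀ s : Idx, Epi (H.B s).n := fun s => (H.B s).epi_n
  have hmid : ∀ s : Idx, H.m (le_refl s) = 𝟙 _ := fun s => by
    haveI := hnepi s
    rw [← cancel_epi (H.B s).n, H.n_m, H.μ_id, (yon S).map_id, Category.id_comp, Category.comp_id]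
  have hmm : ∀ {s t r : Idx} (h : s ≤ t) (h' : t ≤ r), H.m h' ≫ H.m h = H.m (h.trans h') := fun {s t r} h h' => by
    haveI := hnepi r
    rw [← cancel_epi (H.B r).n, ← Category.assoc, H.n_m, Category.assoc, H.n_m, H.n_m, ← H.μ_comp h h',
      Functor.map_comp_assoc]
  let D : Kᵒᵖ ⥤ Sp S :=
    { obj := fun k => Z k.unop
      map := fun {k l} g => d l.unop k.unop (leOfHom g.unop)
      map_id := fun k => (cancel_mono (i k.unop)).1 (by rw [hd, hmid, Category.comp_id, Category.id_comp])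
      map_comp := fun {k l r} g g' => (cancel_mono (i r.unop)).1 (by
        rw [hd, Category.assoc, hd, ← Category.assoc, hd, Category.assoc, hmm]) }
  have hdt : ∀ (k l : K) (h : k ≤ l), d k l h ≫ i k ≫ (H.B k.1).p = i l ≫ (H.B l.1).p := fun k l h => by
    rw [← Category.assoc, hd, Category.assoc, H.m_p]
  let t : D ⟶ (Functor.const Kᵒᵖ).obj Y.obj :=
    { app := fun k => i k.unop ≫ (H.B k.unop.1).p
      naturality := fun k l g => (hdt _ _ _).trans (Category.comp_id _).symm }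
  have sqT : ∀ k, IsPullback (wf k) ((yon S).map (w k ≫ (H.B k.1).q)) (i k ≫ (H.B k.1).p) c.v := fun k => by
    rw [Functor.map_comp]
    exact (sqW k).paste_vert (H.B k.1).sq
  haveI hXepi : Epi (hfa.1.fst c.v) := epi_of_repWith _ (repWith_of_isPullback (hfa.1.isPullback c.v).flip c.etale)
    (repWith_of_isPullback (hfa.1.isPullback c.v).flip hcs)
  have hlc : ∀ k, ∃ l : X ⟶ Z k, l ≫ i k = (H.B k.1).g := fun k => by
    refine hdesc k (hfa.1.fst c.v) _ ?_
    obtain ⟨l, hl⟩ := exists_factor_affine (w k) (hwsurj k) (H.B k.1).γ fun x hx =>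
      Bun.IsAdm.ker _ k.2.2 x ((hwker k x).1 hx)
    exact ⟨(yon S).map l ≫ wf k, by
      rw [Category.assoc, (sqW k).w, ← Functor.map_comp_assoc, hl, (H.B k.1).sqg.w]⟩
  choose lc hlc using hlc
  have hlct : ∀ k, lc k ≫ i k ≫ (H.B k.1).p = f := fun k => by rw [← Category.assoc, hlc, Bun.fac]
  let cn : Cone D :=
    { pt := X
      π :=
        { app := fun k => lc k.unop
          naturality := fun k l g => (cancel_mono (i l.unop)).1 (by
            show (𝟙 _ ≫ lc l.unop) ≫ _ = (lc k.unop ≫ d _ _ _) ≫ _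
            rw [Category.id_comp, hlc, Category.assoc, hd, ← Category.assoc, hlc, H.g_m]) } }
  have hsurj : ∀ x y : Γ((hfa.1.pullback c.v).left, ⊤), ∃ (k : K) (p q : (H.B k.1).ring),
      (H.B k.1).π.hom p = x ∧ (H.B k.1).π.hom q = y := fun x y => by
    obtain ⟨s, p, q, hp, hq⟩ := H.surj x y
    obtain ⟨j, hj, -⟩ := (H.B s).exists_adm hqs _ ∅ (hgood s) fun z hz => absurd hz (Finset.notMem_empty z)
    exact ⟨⟨s, j, hj⟩, p, q, hp, hq⟩
  have hker : ∀ (k : K) (p : (H.B k.1).ring), (H.B k.1).π.hom p = 0 →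
      ∃ (l : K) (h : k ≤ l), (H.τ h.1).hom p ∈ l.2.1 := fun k p hp => by
    obtain ⟨tj, htj⟩ := k.2.2.fg
    obtain ⟨j, hj, hmem⟩ := (H.B k.1).exists_adm hqs (good k.1) (insert p tj) (hgood _) fun z hz => by
      rcases Finset.mem_insert.1 hz with rfl | h
      exacts [hp, Bun.IsAdm.ker _ k.2.2 z (htj.le (Submodule.subset_span h))]
    refine ⟨⟨k.1, j, hj⟩, ⟨le_refl _, fun z hz => ?_⟩, ?_⟩
    · rw [H.τ_id]
      suffices H' : k.2.1 ≤ j from H' hz
      rw [← htj, Submodule.span_le]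
      exact fun y hy => hmem _ (Finset.mem_insert_of_mem hy)
    · rw [H.τ_id]
      exact hmem _ (Finset.mem_insert_self _ _)
  haveI hXa : IsAffine (hfa.1.pullback c.v).left := by
    haveI : IsAffineHom (hfa.1.snd c.v).left := repWith_snd hfa c.v
    exact isAffine_of_isAffineHom (hfa.1.snd c.v).left
  have hepi : ∀ {T : Over S} (y : (yon S).obj T ⟶ Y.obj), Epi ((yon S).map (c.etale.1.snd y)) := fun y =>
    epi_of_repWith _ (repWith_of_isPullback (c.etale.1.isPullback y) c.etale)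
      (repWith_of_isPullback (c.etale.1.isPullback y) hcs)
  have hjm : ∀ {P : Sp S} (p q : P ⟶ X), (∀ k, p ≫ lc k = q ≫ lc k) → p = q := fun {P} p q h =>
    hom_ext_yon fun T l => by
    have hpq : ∀ k, (l ≫ p) ≫ lc k = (l ≫ q) ≫ lc k := fun k => by rw [Category.assoc, h, Category.assoc]
    generalize l ≫ p = p' at hpq ⊢
    generalize l ≫ q = q' at hpq ⊢
    let k₀ : K := Classical.arbitrary K
    have hf₀ : p' ≫ f = q' ≫ f := by rw [← hlct k₀, ← Category.assoc, hpq, Category.assoc]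
    haveI := hepi (p' ≫ f)
    rw [← cancel_epi ((yon S).map (c.etale.1.snd (p' ≫ f)))]
    have sT := c.etale.1.isPullback (p' ≫ f)
    have eX := hfa.1.isPullback c.v
    obtain ⟨lp, hl1, hlp⟩ := eX.exists_lift ((yon S).map (c.etale.1.snd (p' ≫ f)) ≫ p')
      (c.etale.1.fst (p' ≫ f)) (by rw [Category.assoc]; exact sT.w.symm)
    obtain ⟨lq, hl2, hlq⟩ := eX.exists_lift ((yon S).map (c.etale.1.snd (p' ≫ f)) ≫ q')
      (c.etale.1.fst (p' ≫ f)) (by rw [Category.assoc, ← hf₀]; exact sT.w.symm)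
    obtain ⟨lp, rfl⟩ := (yon S).map_surjective lp
    obtain ⟨lq, rfl⟩ := (yon S).map_surjective lq
    suffices H' : lp = lq by rw [← hl1, ← hl2, H']
    refine Over.OverMorphism.ext (ext_of_isAffine (CommRingCat.hom_ext (RingHom.ext fun x => ?_)))
    obtain ⟨k, b, -, rfl, -⟩ := hsurj x x
    have hsame : lp ≫ (H.B k.1).γ = lq ≫ (H.B k.1).γ := by
      refine (yon S).map_injective ((H.B k.1).sq.hom_ext ?_ ?_)
      · rw [Functor.map_comp, Functor.map_comp, Category.assoc, Category.assoc, ← (H.B k.1).sqg.w,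
          reassoc_of% hl1, reassoc_of% hl2, ← hlc k, ← Category.assoc p', hpq, Category.assoc]
      · rw [← Functor.map_comp, ← Functor.map_comp, Category.assoc, Category.assoc, Bun.γq, Functor.map_comp,
          Functor.map_comp]
        exact hlp.trans hlq.symm
    exact congrArg (fun φ : (H.B k.1).ring ⟶ _ => φ.hom b) (congrArg (fun φ => φ.left.appTop) hsame)
  have hlift : ∀ {T : Over S} (z : ∀ k, (yon S).obj T ⟶ Z k), (∀ k l (h : k ≤ l), z l ≫ d k l h = z k) →
      ∃ p : (yon S).obj T ⟶ X, ∀ k, p ≫ lc k = z k := fun {T} z hz => by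
    let k₀ : K := Classical.arbitrary K
    have hy : ∀ k, z k ≫ i k ≫ (H.B k.1).p = z k₀ ≫ i k₀ ≫ (H.B k₀.1).p := fun k => by
      obtain ⟨r, h1, h2⟩ := directed_of (· ≤ ·) k k₀
      rw [← hz k r h1, ← hz k₀ r h2, Category.assoc, Category.assoc, hdt, hdt]
    generalize z k₀ ≫ i k₀ ≫ (H.B k₀.1).p = y at hy
    haveI := hepi y
    have sT := c.etale.1.isPullback y
    have hlam : ∀ k, ∃ lam : c.etale.1.pullback y ⟶ W k,
        (yon S).map lam ≫ wf k = (yon S).map (c.etale.1.snd y) ≫ z k ∧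
        (yon S).map (lam ≫ w k ≫ (H.B k.1).q) = c.etale.1.fst y := fun k => by
      obtain ⟨lam, h1, h2⟩ := (sqT k).exists_lift ((yon S).map (c.etale.1.snd y) ≫ z k) (c.etale.1.fst y)
        (by rw [Category.assoc, hy]; exact sT.w.symm)
      obtain ⟨lam, rfl⟩ := (yon S).map_surjective lam
      exact ⟨lam, h1, by rw [Functor.map_comp]; exact h2⟩
    choose lam hlam1 hlam2 using hlam
    have hcompat : ∀ (k l : K) (h : k ≤ l), (lam l ≫ w l) ≫ H.μ h.1 = lam k ≫ w k := fun k l h => by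
      refine (yon S).map_injective ((H.B k.1).sq.hom_ext ?_ ?_)
      · rw [Functor.map_comp, Category.assoc, ← H.n_m, Functor.map_comp, Category.assoc, ← reassoc_of% (sqW l).w,
          reassoc_of% hlam1 l, ← hd k l h, reassoc_of% hz k l h, Functor.map_comp, Category.assoc, ← (sqW k).w,
          reassoc_of% hlam1 k]
      · rw [← Functor.map_comp, ← Functor.map_comp, Category.assoc, Category.assoc, H.μ_q, Category.assoc, hlam2,
          hlam2]
    obtain ⟨ψ, hψ⟩ := exists_colim_lift (T := Γ((c.etale.1.pullback y).left, ⊤)) (fun k : K => (H.B k.1).ring)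
      (fun k => (H.B k.1).π) (fun k => k.2.1) (fun {k l : K} (h : k ≤ l) => H.τ h.1) (fun {k l : K} (h : k ≤ l) => H.τ_π h.1)
      hsurj
      (fun k p hp => by
        obtain ⟨l, h, hl⟩ := hker k p hp
        exact ⟨l, h, hl⟩)
      (fun k => (lam k ≫ w k).left.appTop)
      (fun {k l} h => by
        show (H.μ h.1).left.appTop ≫ (lam l ≫ w l).left.appTop = _
        rw [← Scheme.Hom.comp_appTop, ← Over.comp_left, hcompat k l h])
      (fun k x hx => by
        rw [Over.comp_left, Scheme.Hom.comp_appTop]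
        show (lam k).left.appTop.hom ((w k).left.appTop.hom x) = 0
        rw [(hwker k x).2 hx, map_zero])
    obtain ⟨u, -, hu⟩ := exists_hom_affine (H.B k₀.1).γ (lam k₀ ≫ w k₀) ψ (hψ k₀)
    have huk : ∀ k, u ≫ (H.B k.1).γ = lam k ≫ w k := fun k => Over.OverMorphism.ext (ext_of_isAffine (by
      rw [Over.comp_left, Scheme.Hom.comp_appTop, hu]
      exact hψ k))
    have ha : ∀ k, ((yon S).map u ≫ hfa.1.fst c.v) ≫ lc k = (yon S).map (c.etale.1.snd y) ≫ z k := fun k => by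
      rw [← cancel_mono (i k), Category.assoc, Category.assoc, hlc, (H.B k.1).sqg.w, ← Functor.map_comp_assoc, huk,
        Functor.map_comp_assoc, ← (sqW k).w, reassoc_of% hlam1 k, Category.assoc]
    haveI := effectiveEpi_of_epi ((yon S).map (c.etale.1.snd y))
    let p : (yon S).obj T ⟶ X := EffectiveEpi.desc ((yon S).map (c.etale.1.snd y)) ((yon S).map u ≫ hfa.1.fst c.v)
      fun g₁ g₂ h => hjm _ _ fun k => by
        rw [Category.assoc, Category.assoc g₂, ha, reassoc_of% h]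
    exact ⟨p, fun k => by rw [← cancel_epi ((yon S).map (c.etale.1.snd y)), EffectiveEpi.fac_assoc, ha]⟩
  choose P hP using @hlift
  have hfacs : ∀ s : Cone D, ∃ p : s.pt ⟶ X, ∀ k, p ≫ lc k.unop = s.π.app k := fun s => by
    have hz : ∀ (T : Over S) (l : (yon S).obj T ⟶ s.pt) (k r : K) (h : k ≤ r),
        (l ≫ s.π.app (op r)) ≫ d k r h = l ≫ s.π.app (op k) := fun T l k r h => by
      rw [Category.assoc]
      exact congrArg (l ≫ ·) (s.w (homOfLE h).op)
    obtain ⟨p, hp⟩ := UHPush.exists_hom_of_yon (fun T l => P (fun k => l ≫ s.π.app (op k)) (hz T l))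
      fun {T T'} g l => hjm _ _ fun k => by rw [hP, Category.assoc, Category.assoc, hP]
    exact ⟨p, fun k => hom_ext_yon fun T l => by rw [← Category.assoc, hp, hP]⟩
  choose lift hliftfac using hfacs
  refine ⟨K, inferInstance, hdir, inferInstance, D, t, cn,
    ⟨lift, hliftfac, fun s p hp => hjm _ _ fun k => (hp (op k)).trans (hliftfac s (op k)).symm⟩, Iso.refl _,
    fun k => hZ k.unop, fun k l g => Groth.L23.isAffineMor_iff.2 ?_,
    fun k => ⟨k.unop.1, i k.unop, W k.unop, w k.unop, wf k.unop, rfl, htaff _, hifp _, hwc _, hwlfp _, sqT _,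
      fun x hx => (hwker _ x).2 (k.unop.2.2.1 x hx), sqW _, (Category.id_comp _).trans (hlc k.unop)⟩,
    fun k => (Category.id_comp _).trans (hlct k.unop)⟩
  refine repWith_of_comp_diagonal (q := i l.unop ≫ (H.B l.unop.1).p) ?_ (repWith_mono
    (fun φ (_ : IsClosedImmersion φ) => inferInstanceAs (IsAffineHom φ)) ((isSeparatedMor_iff (htaff _).1).2
    (repWith_mono (fun φ (_ : IsAffineHom φ) => inferInstanceAs (IsSeparated φ)) (htaff _))))
  show RepWith @IsAffineHom (d _ _ _ ≫ i l.unop ≫ (H.B l.unop.1).p)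
  rw [hdt]
  exact htaff _

end BunSys

end Groth.L23.RelSpec
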