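import Mathlib.LinearAlgebra.SymmetricAlgebra.Basic
import Mathlib.Algebra.Category.Ring.Constructions
import Mathlib.RingTheory.RingHom.FinitePresentation
import Mathlib.Algebra.Module.FinitePresentation

/-!
# Base change and finite presentation of symmetric algebras
-/

universe u

open CategoryTheory CategoryTheory.Limits

set_option autoImplicit false
set_option linter.style.haveILetI false

noncomputable section

namespace Groth.L23.RelSpec

variable {R R' : CommRingCat.{u}} (φ : R ⟶ R') {M M' : Type u} [AddCommGroup M] [Module R M] [AddCommGroup M']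
  [Module R' M']

/-- The structure map of a symmetric algebra. -/
abbrev symStr (R : CommRingCat.{u}) (M : Type u) [AddCommGroup M] [Module R M] :
    R ⟶ CommRingCat.of (SymmetricAlgebra R M) :=
  CommRingCat.ofHom (algebraMap R (SymmetricAlgebra R M))

/-- A semilinear map of modules induces a map of symmetric algebras. -/
def symMap (l : M →+ M') (hl : ∀ (r : R) (m : M), l (r • m) = φ.hom r • l m) :
    CommRingCat.of (SymmetricAlgebra R M) ⟶ CommRingCat.of (SymmetricAlgebra R' M') :=
  letI := ((algebraMap R' (SymmetricAlgebra R' M')).comp φ.hom).toAlgebra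
  CommRingCat.ofHom (SymmetricAlgebra.lift
    ({ toFun := fun m => SymmetricAlgebra.ι R' M' (l m)
       map_add' := fun a b => by rw [map_add, map_add]
       map_smul' := fun r m => by
        rw [hl, map_smul, RingHom.id_apply, Algebra.smul_def, Algebra.smul_def]
        rfl } : M →ₗ[R] SymmetricAlgebra R' M')).toRingHom

variable {φ} (l : M →+ M') (hl : ∀ (r : R) (m : M), l (r • m) = φ.hom r • l m)

theorem symMap_ι (m : M) : (symMap φ l hl).hom (SymmetricAlgebra.ι R M m) = SymmetricAlgebra.ι R' M' (l m) := by
  letI := ((algebraMap R' (SymmetricAlgebra R' M')).comp φ.hom).toAlgebra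
  exact SymmetricAlgebra.lift_ι_apply _ m

theorem symStr_symMap : symStr R M ≫ symMap φ l hl = φ ≫ symStr R' M' := by
  letI := ((algebraMap R' (SymmetricAlgebra R' M')).comp φ.hom).toAlgebra
  ext r
  exact AlgHom.commutes (SymmetricAlgebra.lift _) r

/-- Maps out of a symmetric algebra are determined on the base and on the generators. -/
theorem sym_hom_ext {T : CommRingCat.{u}} {a b : CommRingCat.of (SymmetricAlgebra R M) ⟶ T}
    (h₁ : symStr R M ≫ a = symStr R M ≫ b)
    (h₂ : ∀ m, a.hom (SymmetricAlgebra.ι R M m) = b.hom (SymmetricAlgebra.ι R M m)) : a = b := by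
  refine CommRingCat.hom_ext (RingHom.ext fun x => ?_)
  induction x using SymmetricAlgebra.induction with
  | algebraMap r => exact congrArg (fun f : R ⟶ T => f.hom r) h₁
  | ι m => exact h₂ m
  | mul x y hx hy => rw [map_mul, map_mul, hx, hy]
  | add x y hx hy => rw [map_add, map_add, hx, hy]

/-- A base change of modules gives a base change of symmetric algebras. -/
theorem isPushout_sym
    (hbc : ∀ {S : Type u} [CommRing S] (ψ : R' →+* S) (g : M →+ S),
      (∀ (r : R) (m : M), g (r • m) = ψ (φ.hom r) * g m) →
      ∃ g' : M' →+ S, (∀ (r : R') (m : M'), g' (r • m) = ψ r * g' m) ∧ ∀ m, g' (l m) = g m)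
    (huniq : Submodule.span R' (Set.range l) = ⊤) :
    IsPushout (symStr R M) φ (symMap φ l hl) (symStr R' M') := by
  have hext : ∀ {T : CommRingCat.{u}} {a b : CommRingCat.of (SymmetricAlgebra R' M') ⟶ T},
      symStr R' M' ≫ a = symStr R' M' ≫ b → symMap φ l hl ≫ a = symMap φ l hl ≫ b → a = b :=
    fun {T a b} h₁ h₂ => by
    refine sym_hom_ext h₁ fun m => ?_
    have hm : m ∈ Submodule.span R' (Set.range l) := huniq ▸ trivial
    induction hm using Submodule.span_induction with
    | mem x hx =>
      obtain ⟨x, rfl⟩ := hx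
      rw [← symMap_ι l hl]
      exact congrArg (fun f : CommRingCat.of (SymmetricAlgebra R M) ⟶ T => f.hom (SymmetricAlgebra.ι R M x)) h₂
    | zero => simp
    | add x y _ _ hx hy => rw [map_add, map_add, map_add, hx, hy]
    | smul r x _ hx =>
      rw [map_smul, Algebra.smul_def, map_mul, map_mul, hx]
      exact congrArg (· * _) (congrArg (fun f : R' ⟶ T => f.hom r) h₁)
  refine ⟨⟨symStr_symMap l hl⟩, ⟨PushoutCocone.isColimitAux' _ fun s => ?_⟩⟩
  let ψ : R' →+* s.pt := s.inr.hom
  have hex := hbc ψ
    (s.inl.hom.toAddMonoidHom.comp (SymmetricAlgebra.ι R M).toAddMonoidHom) (fun r m => by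
      show s.inl.hom (SymmetricAlgebra.ι R M (r • m)) = _ * s.inl.hom _
      rw [map_smul, Algebra.smul_def, map_mul]
      exact congrArg (· * _) (congrArg (fun f : R ⟶ s.pt => f.hom r) s.condition))
  let g' := hex.choose
  have hg := hex.choose_spec.1
  have hg' := hex.choose_spec.2
  letI := ψ.toAlgebra
  let d : CommRingCat.of (SymmetricAlgebra R' M') ⟶ s.pt :=
    CommRingCat.ofHom (SymmetricAlgebra.lift
      ({ toFun := g', map_add' := g'.map_add, map_smul' := fun r m => hg r m } : M' →ₗ[R'] s.pt)).toRingHom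
  have hd₂ : symStr R' M' ≫ d = s.inr := by
    ext r
    exact AlgHom.commutes (SymmetricAlgebra.lift _) r
  have hd₁ : symMap φ l hl ≫ d = s.inl := by
    refine sym_hom_ext ?_ fun m => ?_
    · rw [← Category.assoc, symStr_symMap, Category.assoc, hd₂]
      exact s.condition.symm
    · show d.hom ((symMap φ l hl).hom (SymmetricAlgebra.ι R M m)) = _
      rw [symMap_ι]
      exact (SymmetricAlgebra.lift_ι_apply _ (l m)).trans (hg' m)
  exact ⟨d, hd₁, hd₂, fun {m} h₁ h₂ => hext (h₂.trans hd₂.symm) (h₁.trans hd₁.symm)⟩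

/-- The symmetric algebra of a finitely presented module is finitely presented. -/
theorem finitePresentation_sym [Module.FinitePresentation R M] :
    (symStr R M).hom.FinitePresentation := by
  obtain ⟨n, K₀, e, hker⟩ := Module.FinitePresentation.exists_fin R M
  let π : (Fin n → R) →ₗ[R] M := e.symm.toLinearMap.comp K₀.mkQ
  have hπ : Function.Surjective π := e.symm.surjective.comp K₀.mkQ_surjective
  obtain ⟨t, ht₀⟩ := hker
  have ht : Submodule.span R (t : Set (Fin n → R)) = LinearMap.ker π := by
    rw [ht₀, LinearMap.ker_comp, LinearEquiv.ker]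
    exact K₀.ker_mkQ.symm
  let F : MvPolynomial (Fin n) R →ₐ[R] SymmetricAlgebra R M :=
    MvPolynomial.aeval fun i => SymmetricAlgebra.ι R M (π (Pi.single i 1))
  let L : (Fin n → R) →ₗ[R] MvPolynomial (Fin n) R := Fintype.linearCombination R MvPolynomial.X
  let K : Ideal (MvPolynomial (Fin n) R) := Ideal.span (L '' (t : Set (Fin n → R)))
  have hFL : ∀ v, F (L v) = SymmetricAlgebra.ι R M (π v) := fun v => by
    refine congrArg (fun f : (Fin n → R) →ₗ[R] SymmetricAlgebra R M => f v)
      (?_ : F.toLinearMap.comp L = (SymmetricAlgebra.ι R M).comp π)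
    refine LinearMap.pi_ext' fun i => LinearMap.ext_ring ?_
    show F (L (Pi.single i 1)) = SymmetricAlgebra.ι R M (π (Pi.single i 1))
    rw [show L (Pi.single i 1) = MvPolynomial.X i from (Fintype.linearCombination_apply_single R _ i 1).trans (one_smul _ _)]
    exact MvPolynomial.aeval_X _ i
  have hFs : Function.Surjective F := fun x => by
    induction x using SymmetricAlgebra.induction with
    | algebraMap r => exact ⟨algebraMap R _ r, F.commutes r⟩
    | ι m =>
      obtain ⟨v, rfl⟩ := hπ m
      exact ⟨L v, hFL v⟩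
    | mul x y hx hy =>
      obtain ⟨a, rfl⟩ := hx
      obtain ⟨b, rfl⟩ := hy
      exact ⟨a * b, map_mul F a b⟩
    | add x y hx hy =>
      obtain ⟨a, rfl⟩ := hx
      obtain ⟨b, rfl⟩ := hy
      exact ⟨a + b, map_add F a b⟩
  have hKle : LinearMap.ker π ≤ LinearMap.ker ((Ideal.Quotient.mkₐ R K).toLinearMap.comp L) := by
    rw [← ht, Submodule.span_le]
    exact fun v hv => Ideal.Quotient.eq_zero_iff_mem.2 (Ideal.subset_span ⟨v, hv, rfl⟩)
  let G : SymmetricAlgebra R M →ₐ[R] MvPolynomial (Fin n) R ⧸ K :=
    SymmetricAlgebra.lift ((Submodule.liftQ _ _ hKle).comp (LinearMap.quotKerEquivOfSurjective π hπ).symm.toLinearMap)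
  have hGF : G.comp F = Ideal.Quotient.mkₐ R K := MvPolynomial.algHom_ext fun i => by
    show G (F (MvPolynomial.X i)) = _
    rw [MvPolynomial.aeval_X]
    refine (SymmetricAlgebra.lift_ι_apply _ _).trans ?_
    show Submodule.liftQ _ _ hKle ((LinearMap.quotKerEquivOfSurjective π hπ).symm (π (Pi.single i 1))) = _
    rw [show (LinearMap.quotKerEquivOfSurjective π hπ).symm (π (Pi.single i 1)) =
      Submodule.Quotient.mk (Pi.single i 1) from (LinearEquiv.symm_apply_eq _).2 rfl, Submodule.liftQ_apply]
    show Ideal.Quotient.mkₐ R K (L (Pi.single i 1)) = _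
    rw [show L (Pi.single i 1) = MvPolynomial.X i from (Fintype.linearCombination_apply_single R _ i 1).trans (one_smul _ _)]
  refine Algebra.FinitePresentation.of_surjective hFs ?_ |> fun h => (RingHom.finitePresentation_algebraMap).2 h
  have : RingHom.ker F.toRingHom = K := by
    refine le_antisymm (fun x hx => Ideal.Quotient.eq_zero_iff_mem.1 ?_) (Ideal.span_le.2 ?_)
    · rw [show Ideal.Quotient.mk K x = G (F x) from (AlgHom.congr_fun hGF x).symm, show F x = 0 from hx, map_zero]
    · rintro _ ⟨v, hv, rfl⟩
      show F (L v) = 0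
      rw [hFL, show π v = 0 from (ht.le (Submodule.subset_span hv) : v ∈ LinearMap.ker π), map_zero]
  rw [this]
  exact (Submodule.fg_span (t.finite_toSet.image L))

end Groth.L23.RelSpec
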