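import Groth.Agent.L23.RelSpec.Functor
import Groth.Agent.L23.RelSpec.Finite
import Groth.Agent.L09.EtSub.FpMain

/-!
# An affine space as a limit of spaces affine and of finite presentation over the base
-/

universe u

open CategoryTheory CategoryTheory.Limits AlgebraicGeometry Opposite AlgSp

set_option autoImplicit false
set_option linter.style.haveILetI false
set_option backward.isDefEq.respectTransparency false
set_option backward.isDefEq.respectTransparency.types false

noncomputable section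

namespace Groth.L23.RelSpec

open Groth.L23.Norm Groth.L23.GlobSec Groth.L09.ModEt

section Ring

variable {K : Type u} [Preorder K] [IsDirected K (· ≤ ·)] {B T : CommRingCat.{u}} (C : K → CommRingCat.{u})
  (π : ∀ k, C k ⟶ B) (j : ∀ k, Ideal (C k)) (τ : ∀ {k l : K}, k ≤ l → (C k ⟶ C l))

/-- A ring which is a filtered union of quotients receives the compatible maps. -/
theorem exists_colim_lift (hτ : ∀ {k l : K} (h : k ≤ l), τ h ≫ π l = π k)
    (hsurj : ∀ x y : B, ∃ (k : K) (a b : C k), (π k).hom a = x ∧ (π k).hom b = y)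
    (hker : ∀ (k : K) (a : C k), (π k).hom a = 0 → ∃ (l : K) (h : k ≤ l), (τ h).hom a ∈ j l)
    (ρ : ∀ k, C k ⟶ T) (hρ : ∀ {k l : K} (h : k ≤ l), τ h ≫ ρ l = ρ k)
    (hj : ∀ (k : K) (a : C k), a ∈ j k → (ρ k).hom a = 0) : ∃ ψ : B ⟶ T, ∀ k, π k ≫ ψ = ρ k := by
  have hπ' : ∀ {k l : K} (h : k ≤ l) (a : C k), (π l).hom ((τ h).hom a) = (π k).hom a := fun h a =>
    congrArg (fun g : _ ⟶ B => g.hom a) (hτ h)
  have hρ' : ∀ {k l : K} (h : k ≤ l) (a : C k), (ρ l).hom ((τ h).hom a) = (ρ k).hom a := fun h a =>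
    congrArg (fun g : _ ⟶ T => g.hom a) (hρ h)
  have hwd : ∀ (k l : K) (a : C k) (b : C l), (π k).hom a = (π l).hom b → (ρ k).hom a = (ρ l).hom b := by
    intro k l a b hab
    obtain ⟨m, hk, hl⟩ := directed_of (· ≤ ·) k l
    obtain ⟨m', hm', hd⟩ := hker m ((τ hk).hom a - (τ hl).hom b) (by rw [map_sub, hπ', hπ', hab, sub_self])
    have h0 := hj _ _ hd
    rw [map_sub, map_sub, hρ', hρ', hρ', hρ', sub_eq_zero] at h0
    exact h0
  choose k a b ha hb using hsurj
  let F : B → T := fun x => (ρ (k x x)).hom (a x x)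
  have hF : ∀ (l : K) (c : C l), F ((π l).hom c) = (ρ l).hom c := fun l c => hwd _ _ _ _ (ha _ _)
  let ψ : B →+* T :=
    { toFun := F
      map_one' := by rw [← map_one (π (k 1 1)).hom, hF, map_one]
      map_mul' := fun x y => by
        have e : x * y = (π (k x y)).hom (a x y * b x y) := by rw [map_mul, ha, hb]
        rw [e, hF, map_mul, ← hF, ← hF, ha, hb]
      map_zero' := by rw [← map_zero (π (k 1 1)).hom, hF, map_zero]
      map_add' := fun x y => by
        have e : x + y = (π (k x y)).hom (a x y + b x y) := by rw [map_add, ha, hb]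
        rw [e, hF, map_add, ← hF, ← hF, ha, hb] }
  exact ⟨CommRingCat.ofHom ψ, fun l => CommRingCat.hom_ext (RingHom.ext fun c => hF l c)⟩

end Ring

variable {S : Scheme.{u}}

/-- Factor through an affine closed subscheme. -/
theorem exists_factor_affine {P W V : Over S} [IsAffine W.left] [IsAffine V.left] (w : W ⟶ V)
    (hw : Function.Surjective w.left.appTop.hom) (g : P ⟶ V)
    (h : ∀ a, w.left.appTop.hom a = 0 → g.left.appTop.hom a = 0) : ∃ l : P ⟶ W, l ≫ w = g := by
  let ψ : Γ(W.left, ⊤) ⟶ Γ(P.left, ⊤) :=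
    CommRingCat.ofHom (RingHom.liftOfSurjective w.left.appTop.hom hw ⟨g.left.appTop.hom, h⟩)
  let l : P.left ⟶ W.left := P.left.toSpecΓ ≫ Spec.map ψ ≫ W.left.isoSpec.inv
  have hψ : w.left.appTop ≫ ψ = g.left.appTop := CommRingCat.hom_ext (RingHom.liftOfSurjective_comp _ hw ⟨_, h⟩)
  have hl : l.appTop = ψ := by
    show (P.left.toSpecΓ ≫ Spec.map ψ ≫ W.left.isoSpec.inv).appTop = ψ
    rw [Scheme.Hom.comp_appTop, Scheme.Hom.comp_appTop, isoSpec_inv_appTop, Category.assoc,
      ← Scheme.ΓSpecIso_inv_naturality_assoc, Scheme.toSpecΓ_appTop, Iso.inv_hom_id, Category.comp_id]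
  have hlw : l ≫ w.left = g.left := ext_of_isAffine (by rw [Scheme.Hom.comp_appTop, hl, hψ])
  exact ⟨Over.homMk l (by rw [← Over.w w, ← Category.assoc, hlw, Over.w]), Over.OverMorphism.ext hlw⟩

/-- A map into an affine scheme over the base given by functions. -/
theorem exists_hom_affine {P W V : Over S} [IsAffine W.left] [IsAffine V.left] (w : W ⟶ V) (g : P ⟶ V)
    (ψ : Γ(W.left, ⊤) ⟶ Γ(P.left, ⊤)) (h : w.left.appTop ≫ ψ = g.left.appTop) :
    ∃ l : P ⟶ W, l ≫ w = g ∧ l.left.appTop = ψ := by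
  let l : P.left ⟶ W.left := P.left.toSpecΓ ≫ Spec.map ψ ≫ W.left.isoSpec.inv
  have hl : l.appTop = ψ := by
    show (P.left.toSpecΓ ≫ Spec.map ψ ≫ W.left.isoSpec.inv).appTop = ψ
    rw [Scheme.Hom.comp_appTop, Scheme.Hom.comp_appTop, isoSpec_inv_appTop, Category.assoc,
      ← Scheme.ΓSpecIso_inv_naturality_assoc, Scheme.toSpecΓ_appTop, Iso.inv_hom_id, Category.comp_id]
  have hlw : l ≫ w.left = g.left := ext_of_isAffine (by rw [Scheme.Hom.comp_appTop, hl, h])
  exact ⟨Over.homMk l (by rw [← Over.w w, ← Category.assoc, hlw, Over.w]), Over.OverMorphism.ext hlw, hl⟩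

theorem mem_idealOfRep_iff {Z X : Sp S} {i : Z ⟶ X} (hi : Representable i) (E : EtOver X)
    [IsAffine E.obj.left.left] {P : Over S} {fst : (yon S).obj P ⟶ Z} {snd : P ⟶ E.obj.left}
    (sq : IsPullback fst ((yon S).map snd) i E.obj.hom) (x : Γ(E.obj.left.left, ⊤)) :
    x ∈ (idealOfRep hi).ideal E ‹_› ↔ snd.left.appTop.hom x = 0 := by
  let e := (hi.isPullback E.obj.hom).isoIsPullback _ _ sq
  obtain ⟨l, hl⟩ := (yon S).map_surjective e.hom
  obtain ⟨l', hl'⟩ := (yon S).map_surjective e.inv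
  have h1 : l ≫ snd = hi.snd E.obj.hom := (yon S).map_injective (by
    rw [Functor.map_comp, hl]; exact IsPullback.isoIsPullback_hom_snd _ _ _ _)
  have h2 : l' ≫ hi.snd E.obj.hom = snd := (yon S).map_injective (by
    rw [Functor.map_comp, hl']; exact IsPullback.isoIsPullback_inv_snd _ _ _ _)
  show (hi.snd E.obj.hom).left.appTop.hom x = 0 ↔ _
  constructor <;> intro h
  · rw [← h2, Over.comp_left, Scheme.Hom.comp_appTop]
    show l'.left.appTop.hom ((hi.snd E.obj.hom).left.appTop.hom x) = 0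
    rw [h, map_zero]
  · rw [← h1, Over.comp_left, Scheme.Hom.comp_appTop]
    show l.left.appTop.hom (snd.left.appTop.hom x) = 0
    rw [h, map_zero]

theorem toSpec_appTop_surj {G F : Sp S} (N : ModEt G) [N.IsFiniteType] [N.IsQuasicoherent] {f : F ⟶ G}
    (hf : Representable f) (φ : N ⟶ (pushModEt hf).obj (unitModEt F)) (c : Chart G) (m : Nc N c) :
    ∃ a, (toSpec N hf φ c).left.appTop.hom a = fnHom N hf φ c m := by
  refine ⟨(Scheme.ΓSpecIso _).inv.hom (SymmetricAlgebra.ι (Γ₀ (objC c)) (Nc N c) m), ?_⟩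
  show ((Scheme.ΓSpecIso _).inv ≫ ((EtOver.bcObj hf (objC c)).obj.left.left.toSpecΓ ≫
    Spec.map (ringMap N hf φ c)).appTop).hom (SymmetricAlgebra.ι (Γ₀ (objC c)) (Nc N c) m) = _
  rw [Scheme.Hom.comp_appTop, ← Scheme.ΓSpecIso_inv_naturality_assoc, Scheme.toSpecΓ_appTop, Iso.inv_hom_id,
    Category.comp_id]
  exact ringMap_ι N hf φ c m

theorem symHom_spec_comp {G : Sp S} {N N' N'' : ModEt G} [N.IsFiniteType] [N.IsQuasicoherent] [N'.IsFiniteType]
    [N'.IsQuasicoherent] [N''.IsFiniteType] [N''.IsQuasicoherent] (ν : N ⟶ N') (ν' : N' ⟶ N'') (c : Chart G) :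
    (symHom (ν ≫ ν')).spec c = (symHom ν').spec c ≫ (symHom ν).spec c := Over.OverMorphism.ext (by
  show Spec.map _ = Spec.map _ ≫ Spec.map _
  rw [symHom_app_comp, Spec.map_comp])

theorem symHom_spec_id {G : Sp S} {N : ModEt G} [N.IsFiniteType] [N.IsQuasicoherent] (c : Chart G) :
    (symHom (𝟙 N)).spec c = 𝟙 _ := Over.OverMorphism.ext (by
  show Spec.map _ = 𝟙 _
  rw [symHom_app_id, Spec.map_id])

theorem symHom_spec_toSpec {G F : Sp S} {N N' : ModEt G} [N.IsFiniteType] [N.IsQuasicoherent] [N'.IsFiniteType]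
    [N'.IsQuasicoherent] (ν : N ⟶ N') {f : F ⟶ G} (hf : Representable f)
    (φ : N ⟶ (pushModEt hf).obj (unitModEt F)) (φ' : N' ⟶ (pushModEt hf).obj (unitModEt F)) (h : ν ≫ φ' = φ)
    (c : Chart G) : toSpec N' hf φ' c ≫ (symHom ν).spec c = toSpec N hf φ c := Over.OverMorphism.ext (by
  show (_ ≫ Spec.map _) ≫ Spec.map _ = _ ≫ Spec.map _
  rw [Category.assoc, ← Spec.map_comp, symHom_ringMap ν hf φ φ' h])

end Groth.L23.RelSpec
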