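import Groth.Agent.L23.RelSpec.Glue
import Groth.Agent.L23.RelSpec.Sym
import Groth.Agent.L23.FpSections
import Groth.Agent.L23.SubQcoh
import Groth.Agent.L09.ModEt.Main
import Groth.Agent.L09.ModEt.Ext

/-!
# The vector bundle of a module of finite type
-/

universe u

open CategoryTheory CategoryTheory.Limits AlgebraicGeometry Opposite AlgSp TensorProduct

set_option autoImplicit false
set_option linter.style.haveILetI false
set_option backward.isDefEq.respectTransparency false
set_option backward.isDefEq.respectTransparency.types false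

noncomputable section

namespace Groth.L23.RelSpec

open Groth.L23.Norm Groth.L09.ModEt

variable {S : Scheme.{u}} {G : Sp S}

/-- The object of the site of a chart. -/
def objC (c : Chart G) : EtOver G := EtOver.mk c.v c.etale

instance (c : Chart G) : IsAffine (objC c).obj.left.left := inferInstanceAs (IsAffine c.V.left)

/-- The morphism of a refinement. -/
def objR {c' c : Chart G} (r : Refine c' c) : objC c' ⟶ objC c := EtOver.homMk r.a r.fac

theorem objR_comp {c'' c' c : Chart G} (r : Refine c'' c') (s : Refine c' c) :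
    objR (r.comp s) = objR r ≫ objR s := EtOver.hom_ext _ _ rfl

variable (N : ModEt G) [N.IsFiniteType] [N.IsQuasicoherent]

instance small_sect (c : Chart G) : Small.{u} (sectModEt N (objC c)) := by
  haveI := finite_sectModEt N (objC c)
  obtain ⟨n, f, hf⟩ := Module.Finite.exists_fin' (Γ₀ (objC c)) (sectModEt N (objC c))
  exact small_of_surjective hf

/-- Sections on a chart, in the small universe. -/
abbrev Nc (c : Chart G) : Type u := Shrink.{u} (sectModEt N (objC c))

/-- The identification with the sections. -/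
def toSect (c : Chart G) : Nc N c ≃ₗ[Γ₀ (objC c)] sectModEt N (objC c) :=
  Shrink.linearEquiv (Γ₀ (objC c)) (sectModEt N (objC c))

/-- Restriction between charts. -/
def resC {c' c : Chart G} (r : Refine c' c) : Nc N c →+ Nc N c' :=
  (toSect N c').symm.toAddMonoidHom.comp ((res N (objR r)).comp (toSect N c).toAddMonoidHom)

theorem resC_smul {c' c : Chart G} (r : Refine c' c) (a : Γ₀ (objC c)) (m : Nc N c) :
    resC N r (a • m) = (objR r).hom.left.left.appTop.hom a • resC N r m := by
  show (toSect N c').symm (res N (objR r) (toSect N c (a • m))) = _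
  rw [show toSect N c (a • m) = (show Γ₀ (objC c) from a) • toSect N c m from
    (toSect N c).map_smul (show Γ₀ (objC c) from a) m, res_smul]
  exact (toSect N c').symm.map_smul _ _

theorem hbc_resC {c' c : Chart G} (r : Refine c' c) :
    Submodule.span (Γ₀ (objC c')) (Set.range (resC N r)) = ⊤ ∧
    ∀ {T : Type u} [CommRing T] (ψ : Γ₀ (objC c') →+* T) (g : Nc N c →+ T),
      (∀ (a : Γ₀ (objC c)) (m : Nc N c), g (a • m) = ψ ((objR r).hom.left.left.appTop.hom a) * g m) →
      ∃ g' : Nc N c' →+ T, (∀ (a : Γ₀ (objC c')) (m : Nc N c'), g' (a • m) = ψ a * g' m) ∧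
        ∀ m, g' (resC N r m) = g m := by
  letI := (pb (objR r)).toAlgebra
  let e := AddEquiv.ofBijective (θ N (objR r)) (bc_of_isQuasicoherent N (objR r))
  refine ⟨Submodule.eq_top_iff'.2 fun x => ?_, fun {T} _ ψ g hg => ?_⟩
  · obtain ⟨y, hy⟩ := e.surjective (toSect N c' x)
    rw [show x = (toSect N c').symm (e y) by rw [hy, LinearEquiv.symm_apply_apply]]
    clear hy
    induction y using TensorProduct.induction_on with
    | zero => rw [map_zero, map_zero]; exact zero_mem _
    | add a b ha hb => rw [map_add, map_add]; exact add_mem ha hb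
    | tmul b m =>
      rw [show e (b ⊗ₜ m) = b • res N (objR r) m from θ_tmul N (objR r) b m, LinearEquiv.map_smul]
      refine Submodule.smul_mem _ b (Submodule.subset_span ⟨(toSect N c).symm m, ?_⟩)
      show (toSect N c').symm (res N (objR r) (toSect N c ((toSect N c).symm m))) = _
      rw [LinearEquiv.apply_symm_apply]
  let B : Γ₀ (objC c') →+ sectModEt N (objC c) →+ T :=
    AddMonoidHom.mk' (fun b => (AddMonoidHom.mulLeft (ψ b)).comp (g.comp (toSect N c).symm.toAddMonoidHom))
      fun a b => by ext m; show ψ (a + b) * _ = _; rw [map_add, add_mul]; rfl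
  let L : Γ₀ (objC c') ⊗[Γ₀ (objC c)] sectModEt N (objC c) →+ T :=
    TensorProduct.liftAddHom B fun a b m => by
      show ψ (a • b) * g ((toSect N c).symm m) = ψ b * g ((toSect N c).symm (a • m))
      rw [LinearEquiv.map_smul, Algebra.smul_def, map_mul]
      refine Eq.trans ?_ (congrArg (ψ b * ·) (hg a _)).symm
      show ψ ((objR r).hom.left.left.appTop.hom a) * ψ b * _ = ψ b * (ψ ((objR r).hom.left.left.appTop.hom a) * _)
      ring
  refine ⟨L.comp (e.symm.toAddMonoidHom.comp (toSect N c').toAddMonoidHom), fun a x => ?_, fun m => ?_⟩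
  · show L (e.symm (toSect N c' (a • x))) = ψ a * L (e.symm (toSect N c' x))
    rw [show toSect N c' (a • x) = (show Γ₀ (objC c') from a) • toSect N c' x from
      (toSect N c').map_smul (show Γ₀ (objC c') from a) x]
    obtain ⟨y, hy⟩ := e.surjective (toSect N c' x)
    rw [← hy, e.symm_apply_apply]
    clear hy x
    induction y using TensorProduct.induction_on with
    | zero => rw [map_zero, smul_zero, map_zero, map_zero, mul_zero]
    | add y z hy hz => rw [map_add, smul_add, map_add, map_add, hy, hz, map_add, mul_add]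
    | tmul b n =>
      rw [show e (b ⊗ₜ n) = b • res N (objR r) n from θ_tmul N (objR r) b n, smul_smul,
        show ((show Γ₀ (objC c') from a) * b) • res N (objR r) n =
          e (((show Γ₀ (objC c') from a) * b) ⊗ₜ n) from (θ_tmul N (objR r) _ n).symm, e.symm_apply_apply]
      show ψ (a * b) * _ = ψ a * (ψ b * _)
      rw [map_mul, mul_assoc]
  · show L (e.symm (toSect N c' ((toSect N c').symm (res N (objR r) (toSect N c m))))) = g m
    rw [LinearEquiv.apply_symm_apply, show res N (objR r) (toSect N c m) = e (1 ⊗ₜ toSect N c m) from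
      (one_smul _ _).symm.trans (θ_tmul N (objR r) 1 _).symm, e.symm_apply_apply]
    show ψ 1 * g ((toSect N c).symm (toSect N c m)) = g m
    rw [map_one, one_mul, LinearEquiv.symm_apply_apply]

/-- The symmetric algebra of a module of finite type. -/
def symData : AlgData G where
  A c := CommRingCat.of (SymmetricAlgebra (Γ₀ (objC c)) (Nc N c))
  str c := symStr (Γ₀ (objC c)) (Nc N c)
  map r := symMap (objR r).hom.left.left.appTop (resC N r) (resC_smul N r)
  isPushout r := isPushout_sym (resC N r) (resC_smul N r) (hbc_resC N r).2 (hbc_resC N r).1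
  map_comp {c'' c' c} r s := by
    refine sym_hom_ext ?_ fun m => ?_
    · rw [symStr_symMap, ← Category.assoc, symStr_symMap, Category.assoc, symStr_symMap, ← Category.assoc]
      exact congrArg (· ≫ symStr (Γ₀ (objC c'')) (Nc N c'')) (Scheme.Hom.comp_appTop _ _)
    · refine (symMap_ι _ _ m).trans ?_
      refine Eq.trans ?_ ((congrArg _ (symMap_ι (resC N s) (resC_smul N s) m)).trans
        (symMap_ι (resC N r) (resC_smul N r) _)).symm
      congr 1
      show (toSect N c'').symm (res N (objR (r.comp s)) (toSect N c m)) =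
        (toSect N c'').symm (res N (objR r) (toSect N c' ((toSect N c').symm (res N (objR s) (toSect N c m)))))
      rw [LinearEquiv.apply_symm_apply, objR_comp, res_comp]

/-- The chart of the bundle is finitely presented. -/
theorem finitePresentation_symData [N.IsFinitePresentation] (c : Chart G) :
    ((symData N).str c).hom.FinitePresentation := by
  haveI := Groth.L23.FP.finitePresentation_sectModEt N (objC c)
  haveI : Module.FinitePresentation (Γ₀ (objC c)) (Nc N c) :=
    Module.FinitePresentation.of_equiv (toSect N c).symm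
  exact finitePresentation_sym (R := Γ₀ (objC c)) (M := Nc N c)

section Map

variable {F : Sp S} {f : F ⟶ G} (hf : Representable f) (φ : N ⟶ (pushModEt hf).obj (unitModEt F))

/-- The functions given by the sections. -/
def fnHom (c : Chart G) : Nc N c →+ Γ₀ (EtOver.bcObj hf (objC c)) where
  toFun m := (sapp φ (objC c) (toSect N c m)).down
  map_zero' := by rw [map_zero, map_zero]; rfl
  map_add' a b := by rw [map_add, map_add]; rfl

theorem fnHom_smul (c : Chart G) (a : Γ₀ (objC c)) (m : Nc N c) :
    fnHom N hf φ c (a • m) = (EtOver.bcπ hf (objC c)).left.appTop.hom a * fnHom N hf φ c m := by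
  show (sapp φ (objC c) (toSect N c (a • m))).down = _
  rw [show toSect N c (a • m) = (show Γ₀ (objC c) from a) • toSect N c m from
    (toSect N c).map_smul (show Γ₀ (objC c) from a) m, map_smul]
  rfl

/-- The ring map of a chart. -/
def ringMap (c : Chart G) : (symData N).A c ⟶ Γ₀ (EtOver.bcObj hf (objC c)) :=
  letI := (EtOver.bcπ hf (objC c)).left.appTop.hom.toAlgebra
  CommRingCat.ofHom (SymmetricAlgebra.lift
    ({ toFun := fnHom N hf φ c
       map_add' := map_add _
       map_smul' := fun a m => fnHom_smul N hf φ c a m } :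
        Nc N c →ₗ[Γ₀ (objC c)] Γ₀ (EtOver.bcObj hf (objC c)))).toRingHom

theorem symStr_ringMap (c : Chart G) : (symData N).str c ≫ ringMap N hf φ c = (EtOver.bcπ hf (objC c)).left.appTop := by
  letI := (EtOver.bcπ hf (objC c)).left.appTop.hom.toAlgebra
  refine CommRingCat.hom_ext (RingHom.ext fun a => ?_)
  exact AlgHom.commutes (R := Γ₀ (objC c)) (SymmetricAlgebra.lift (R := Γ₀ (objC c)) (M := Nc N c) _) a

theorem ringMap_ι (c : Chart G) (m : Nc N c) :
    (ringMap N hf φ c).hom (SymmetricAlgebra.ι (Γ₀ (objC c)) (Nc N c) m) = fnHom N hf φ c m := by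
  letI := (EtOver.bcπ hf (objC c)).left.appTop.hom.toAlgebra
  exact SymmetricAlgebra.lift_ι_apply _ m

/-- The map to a chart of the bundle. -/
def toSpec (c : Chart G) : (EtOver.bcObj hf (objC c)).obj.left ⟶ (symData N).spec c :=
  Over.homMk ((EtOver.bcObj hf (objC c)).obj.left.left.toSpecΓ ≫ Spec.map (ringMap N hf φ c)) (by
    show (_ ≫ Spec.map (ringMap N hf φ c)) ≫ Spec.map ((symData N).str c) ≫ c.V.left.isoSpec.inv ≫ c.V.hom = _
    rw [Category.assoc, ← Spec.map_comp_assoc, symStr_ringMap, ← Scheme.toSpecΓ_naturality_assoc]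
    show _ ≫ c.V.left.toSpecΓ ≫ c.V.left.isoSpec.inv ≫ c.V.hom = _
    rw [show c.V.left.toSpecΓ = c.V.left.isoSpec.hom from (Scheme.isoSpec_hom c.V.left).symm, Iso.hom_inv_id_assoc]
    exact Over.w (EtOver.bcπ hf (objC c)))

theorem toSpec_proj (c : Chart G) : toSpec N hf φ c ≫ (symData N).proj c = EtOver.bcπ hf (objC c) := by
  refine Over.OverMorphism.ext ?_
  show (_ ≫ Spec.map (ringMap N hf φ c)) ≫ Spec.map ((symData N).str c) ≫ c.V.left.isoSpec.inv = _
  rw [Category.assoc, ← Spec.map_comp_assoc, symStr_ringMap, ← Scheme.toSpecΓ_naturality_assoc]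
  show _ ≫ c.V.left.toSpecΓ ≫ c.V.left.isoSpec.inv = _
  rw [show c.V.left.toSpecΓ = c.V.left.isoSpec.hom from (Scheme.isoSpec_hom c.V.left).symm, Iso.hom_inv_id,
    Category.comp_id]

theorem toSpec_natural {c' c : Chart G} (r : Refine c' c) :
    (EtOver.bcMap hf (objR r)).hom.left ≫ toSpec N hf φ c = toSpec N hf φ c' ≫ (symData N).specMap r := by
  refine Over.OverMorphism.ext ?_
  let s := EtOver.bcMap hf (objR r)
  show s.hom.left.left ≫ (EtOver.bcObj hf (objC c)).obj.left.left.toSpecΓ ≫ Spec.map (ringMap N hf φ c) =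
    ((EtOver.bcObj hf (objC c')).obj.left.left.toSpecΓ ≫ Spec.map (ringMap N hf φ c')) ≫ Spec.map ((symData N).map r)
  rw [Scheme.toSpecΓ_naturality_assoc, Category.assoc, ← Spec.map_comp, ← Spec.map_comp]
  congr 2
  refine sym_hom_ext ?_ fun m => ?_
  · show (symData N).str c ≫ ringMap N hf φ c ≫ s.hom.left.left.appTop =
      (symData N).str c ≫ (symData N).map r ≫ ringMap N hf φ c'
    rw [← Category.assoc, symStr_ringMap, ← Category.assoc, ((symData N).isPushout r).w, Category.assoc,
      symStr_ringMap, ← Scheme.Hom.comp_appTop, ← Scheme.Hom.comp_appTop]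
    congr 1
    rw [← Over.comp_left, ← Over.comp_left]
    exact congrArg CommaMorphism.left (EtOver.bcMap_snd hf (objR r))
  · show pb s ((ringMap N hf φ c).hom _) = (ringMap N hf φ c').hom ((symMap _ (resC N r) (resC_smul N r)).hom _)
    rw [symMap_ι, ringMap_ι, ringMap_ι]
    show pb s (sapp φ (objC c) (toSect N c m)).down =
      (sapp φ (objC c') (toSect N c' ((toSect N c').symm (res N (objR r) (toSect N c m))))).down
    rw [LinearEquiv.apply_symm_apply, sapp_res]
    rfl

/-- The map into the bundle. -/
theorem exists_toBundle {n : ∀ c : Chart G, (yon S).obj ((symData N).spec c) ⟶ (symData N).relSpec}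
    (hn : ∀ c, IsPullback (n c) ((yon S).map ((symData N).proj c)) (symData N).relProj c.v)
    (hnk : ∀ (c : Chart G) {Z : Over S} (k : Z ⟶ (symData N).spec c) (e : _),
        (Elem.restrict k (homEquiv (symData N).toData _ (n c))).h c (𝟙 Z) (k ≫ (symData N).proj c) e = k) :
    ∃ f' : F ⟶ (symData N).relSpec, f' ≫ (symData N).relProj = f ∧
      ∀ c, IsPullback (hf.fst c.v) ((yon S).map (toSpec N hf φ c)) f' (n c) := by
  let e : ∀ c : Chart G, pullback f c.v ≅ (yon S).obj (EtOver.bcObj hf (objC c)).obj.left := fun c =>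
    (IsPullback.of_hasPullback f c.v).isoIsPullback _ _ (hf.isPullback c.v)
  obtain ⟨f', h1, h2⟩ := exists_map_glued f (symData N).toData (fun c => (e c).hom ≫ (yon S).map (toSpec N hf φ c))
    (fun c => by
      show ((e c).hom ≫ (yon S).map (toSpec N hf φ c)) ≫ (yon S).map ((symData N).proj c) = _
      rw [Category.assoc, ← Functor.map_comp, toSpec_proj]
      exact IsPullback.isoIsPullback_hom_snd _ _ _ _)
    (fun {c' c} r => by
      show _ ≫ (e c).hom ≫ (yon S).map (toSpec N hf φ c) =
        ((e c').hom ≫ (yon S).map (toSpec N hf φ c')) ≫ (yon S).map ((symData N).specMap r)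
      rw [Category.assoc, ← Functor.map_comp, ← toSpec_natural, Functor.map_comp, ← Category.assoc, ← Category.assoc]
      congr 1
      refine (hf.isPullback c.v).hom_ext ?_ ?_
      · rw [Category.assoc, IsPullback.isoIsPullback_hom_fst, Category.assoc, pullback.lift_fst, Category.comp_id]
        refine Eq.trans ?_ (congrArg ((e c').hom ≫ ·) (EtOver.map_bcMap_fst hf (objR r))).symm
        exact (IsPullback.isoIsPullback_hom_fst _ _ _ _).symm
      · rw [Category.assoc, IsPullback.isoIsPullback_hom_snd, Category.assoc, pullback.lift_snd]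
        refine Eq.trans ?_ (congrArg ((e c').hom ≫ ·) ((congrArg (yon S).map (EtOver.bcMap_snd hf (objR r))).symm.trans
          ((yon S).map_comp _ _)))
        rw [Functor.map_comp, ← Category.assoc]
        exact congrArg (· ≫ (yon S).map r.a) (IsPullback.isoIsPullback_hom_snd _ _ _ _).symm)
    hn hnk
  refine ⟨f', h1, fun c => (h2 c).of_iso (e c) (Iso.refl _) (Iso.refl _) (Iso.refl _) ?_ ?_ (by simp) (by simp)⟩
  · rw [Iso.refl_hom, Category.comp_id]
    exact (IsPullback.isoIsPullback_hom_fst _ _ _ _).symm
  · rw [Iso.refl_hom, Category.comp_id]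

end Map

end Groth.L23.RelSpec
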